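import Groth.Agent.HypSq53.Chart
import Groth.Agent.Quot84.Desc

/-!
# A double cover of the line is the quotient by its involution
-/

set_option autoImplicit false
set_option backward.isDefEq.respectTransparency.types false
set_option linter.style.haveILetI false

universe u

open CategoryTheory CategoryTheory.Limits AlgebraicGeometry TopologicalSpace Opposite FunFld
open Groth.Agent.Var76.ProjCoord

noncomputable section

namespace Groth.Agent.SymSq53

attribute [local instance] CrvPic30.ffAlg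

variable {C : Scheme.{u}}

/-- The action of the symmetric group on two letters by an involution. -/
def involAct (σ : C ⟶ C) (h : σ ≫ σ = 𝟙 C) : ULift.{u} (Equiv.Perm (Fin 2)) →* Aut C where
  toFun g := if g = 1 then 1 else ⟨σ, σ, h, h⟩
  map_one' := if_pos rfl
  map_mul' a b := by
    have hne : (ULift.up.{u} (Equiv.swap (0 : Fin 2) 1)) ≠ 1 := fun h => by
      have := congrArg ULift.down h
      exact absurd this (by decide)
    have hp : ∀ g : ULift.{u} (Equiv.Perm (Fin 2)), g = 1 ∨ g = ULift.up (Equiv.swap 0 1) := fun ⟨g⟩ => by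
      rcases (by decide : ∀ g : Equiv.Perm (Fin 2), g = 1 ∨ g = Equiv.swap 0 1) g with rfl | rfl
      · exact Or.inl rfl
      · exact Or.inr rfl
    have hsq : ULift.up.{u} (Equiv.swap (0 : Fin 2) 1) * ULift.up (Equiv.swap 0 1) = 1 := by
      ext1
      exact Equiv.swap_mul_self 0 1
    rcases hp a with rfl | rfl <;> rcases hp b with rfl | rfl
    · simp
    · simp
    · simp
    · rw [if_pos hsq, if_neg hne]
      exact (Iso.ext h).symm

theorem involAct_hom (σ : C ⟶ C) (h : σ ≫ σ = 𝟙 C) (g : ULift.{u} (Equiv.Perm (Fin 2))) :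
    (involAct σ h g).hom = 𝟙 C ∨ (involAct σ h g).hom = σ := by
  by_cases hg : g = 1
  · exact Or.inl (by subst hg; rw [map_one]; rfl)
  · exact Or.inr (by
      show (if g = 1 then (1 : Aut C) else ⟨σ, σ, h, h⟩).hom = σ
      rw [if_neg hg])

variable {k : Type u} [Field k] [C.Over (Spec (CommRingCat.of k))] [IsIntegral C] [IsIntegral (CohB1.ProjSpace 1 k)]
  {h : CrvPic30.Setup k C} {κ : C ⟶ CohB1.ProjSpace 1 k} [IsFinite κ] [Flat κ] {σ : C ⟶ C}
  {e : κ (genericPoint C) = genericPoint (CohB1.ProjSpace 1 k)} {es : σ (genericPoint C) = genericPoint C}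
  {y : C.functionField} {R : Polynomial k}

/-- The cover is the quotient by the involution. -/
theorem isQuot_cover (h2 : (2 : k) ≠ 0) (hκ : κ ≫ CohB1.ProjSpace.toSpec 1 k = C ↘ Spec (CommRingCat.of k))
    (hσ : σ ≫ κ = κ) (hσp : σ ≫ (C ↘ Spec (CommRingCat.of k)) = C ↘ Spec (CommRingCat.of k))
    (hc : HypSq53.Coord h κ σ e es y R) : SGA1.IsQuot (involAct σ hc.invol) κ := by
  have hinv : ∀ g, (involAct σ hc.invol g).hom ≫ κ = κ := fun g => by
    rcases involAct_hom σ hc.invol g with h1 | h1 <;> rw [h1]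
    · exact Category.id_comp κ
    · exact hσ
  have : IsDominant κ := ⟨by
    rw [DenseRange, dense_iff_closure_eq, ← Set.univ_subset_iff]
    exact le_trans (genericPoint_spec (CohB1.ProjSpace 1 k)).symm.subset
      (closure_mono (Set.singleton_subset_iff.2 ⟨genericPoint C, e⟩))⟩
  have : IsSchemeTheoreticallyDominant κ := .of_isDominant κ
  refine Quot84.isQuot_of_affine_cover κ _ inferInstance hinv (fun i => U k 1 i)
    (fun i => isAffineOpen_U k 1 i) (fun y => exists_mem_U k 1 y) (fun i => κ.app_injective _) fun i s hs => ?_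
  obtain ⟨sy, -, hsy, hgen⟩ := hc.exists_anti h2 hκ hσ hσp i
  obtain ⟨P, Q, rfl⟩ := hgen s
  have hσs := hs (ULift.up (Equiv.swap 0 1))
  have hg : (involAct σ hc.invol (ULift.up (Equiv.swap 0 1))).hom = σ := by
    have hne : (ULift.up.{u} (Equiv.swap (0 : Fin 2) 1)) ≠ 1 := fun hh =>
      absurd (congrArg ULift.down hh) (by decide)
    exact congrArg Iso.hom (if_neg (α := Aut C) (t := 1) (e := ⟨σ, σ, hc.invol, hc.invol⟩) hne)
  rw [Quot84.pull_congr κ _ hσ hg] at hσs
  let b := HypSq53.cst (CohB1.ProjSpace.toSpec 1 k) (U k 1 i)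
  let w : Γ(CohB1.ProjSpace 1 k, U k 1 i) :=
    Proj.awayToSection (CohB1.polyGrading 1 k) (MvPolynomial.X i) (frac k 1 i (X₁ k 1 (i + 1)))
  have hw : κ.app (U k 1 i) w = HypSq53.zz κ i (i + 1) := rfl
  have hb : (κ.app (U k 1 i)).hom.comp b.hom = (HypSq53.cst (C ↘ Spec (CommRingCat.of k)) (HypSq53.chartOpen κ i)).hom := by
    ext r
    show κ.app (U k 1 i) (b r) = _
    rw [Scheme.Hom.app_eq_appLE, HypSq53.appLE_cst, hκ]
  have hpoly : ∀ T : Polynomial k, κ.app (U k 1 i) (T.eval₂ b.hom w) =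
      T.eval₂ (HypSq53.cst (C ↘ Spec (CommRingCat.of k)) (HypSq53.chartOpen κ i)).hom (HypSq53.zz κ i (i + 1)) := fun T => by
    rw [← hb, ← hw]
    exact Polynomial.hom_eval₂ T b.hom (κ.app (U k 1 i)).hom w
  rw [← hpoly P, ← hpoly Q] at hσs ⊢
  rw [map_add, map_mul, Quot84.app_pull_apply κ hσ, Quot84.app_pull_apply κ hσ] at hσs
  have hneg : (Quot84.pull κ σ hσ (U k 1 i)).hom sy = -sy := hsy
  rw [hneg, add_right_inj] at hσs
  refine ⟨P.eval₂ b.hom w, ?_⟩
  have h20 : (2 : Γ(C, κ ⁻¹ᵁ U k 1 i)) ≠ 0 := by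
    have := (isUnit_iff_ne_zero.2 h2).map (HypSq53.cst (C ↘ Spec (CommRingCat.of k)) (HypSq53.chartOpen κ i)).hom
    rw [map_ofNat] at this
    have : Nonempty (κ ⁻¹ᵁ U k 1 i) := ⟨⟨_, HypSq53.generic_mem_chartOpen e i⟩⟩
    exact ‹IsUnit (2 : Γ(C, κ ⁻¹ᵁ U k 1 i))›.ne_zero
  have hz : κ.app (U k 1 i) (Q.eval₂ b.hom w) * sy = 0 := by
    have : Nonempty (κ ⁻¹ᵁ U k 1 i) := ⟨⟨_, HypSq53.generic_mem_chartOpen e i⟩⟩
    rw [mul_neg] at hσs
    have h3 : (2 : Γ(C, κ ⁻¹ᵁ U k 1 i)) * (κ.app (U k 1 i) (Q.eval₂ b.hom w) * sy) = 0 := by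
      rw [two_mul]
      nth_rw 1 [← hσs]
      exact neg_add_cancel _
    exact (mul_eq_zero.1 h3).resolve_left h20
  exact (add_zero _).symm.trans (congrArg _ hz.symm)

end Groth.Agent.SymSq53

end
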