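import Groth.Agent.SymSq53.Rows
import Groth.Agent.SymSq53.CurveQuot
import Groth.Agent.ASB64.PicProj
import Groth.Agent.Pn71.Cohomology
import Groth.Agent.Var76.RegTools
import Groth.Agent.Frob53.DoubleCover

/-!
# Vanishing of `H¹` on the symmetric square
-/

set_option autoImplicit false
set_option backward.isDefEq.respectTransparency.types false
set_option linter.style.haveILetI false
set_option maxSynthPendingDepth 6

universe u

open CategoryTheory CategoryTheory.Limits AlgebraicGeometry TopologicalSpace Opposite FunFld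
open scoped Groth.Agent.FGA29

noncomputable section

namespace Groth.Agent.SymSq53

attribute [local instance] CrvPic30.ffAlg

/-- A morphism into a direct image kills the first cohomology once the restriction has none. -/
theorem hmap_eq_zero_of_factor (k : Type u) [Field k] {P S : Scheme.{u}} [P.Over (Spec (CommRingCat.of k))]
    [S.Over (Spec (CommRingCat.of k))] [IsProper (S ↘ Spec (CommRingCat.of k))] (j : P ⟶ S) [IsAffineHom j]
    (hj : j ≫ (S ↘ Spec (CommRingCat.of k)) = P ↘ Spec (CommRingCat.of k)) {M : S.Modules}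
    (hM : PicF.IsInvertible M) {G : P.Modules} (φ : M ⟶ (Scheme.Modules.pushforward j).obj G) (n : ℕ)
    (hv : Subsingleton (Coh.HH P ((Scheme.Modules.pullback j).obj M) n)) (x : Coh.HH S M n) :
    Crv77.hmap k φ n x = 0 := by
  haveI := (Amp73.isCoh_of_isInvertible (Amp73.isInvertible_pullback j hM)).1
  obtain ⟨e⟩ := Var76.nonempty_hhLin_push (A := k) j hj ((Scheme.Modules.pullback j).obj M)
    (QCqs72.isQuasicoherent_pushforward _ _) n
  haveI : Subsingleton (Coh.HH S ((Coh.push j).obj ((Scheme.Modules.pullback j).obj M)) n) :=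
    e.toEquiv.subsingleton
  let adj := Scheme.Modules.pullbackPushforwardAdjunction j
  have hφ : adj.unit.app M ≫ (Scheme.Modules.pushforward j).map ((adj.homEquiv M G).symm φ) = φ := by
    exact (adj.homEquiv_unit (f := (adj.homEquiv M G).symm φ)).symm.trans (Equiv.apply_symm_apply _ φ)
  rw [← hφ, ← Crv77.hmap_comp]
  exact (congrArg (Crv77.hmap k ((Scheme.Modules.pushforward j).map ((adj.homEquiv M G).symm φ)) n)
    (@Subsingleton.elim _ this (Crv77.hmap k (adj.unit.app M) n x) 0)).trans (map_zero _)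

/-- Injectivity of a composite on a cohomology group. -/
theorem subsingleton_of_injective_comp (k : Type u) [Field k] {S : Scheme.{u}} [S.Over (Spec (CommRingCat.of k))]
    {M A B : S.Modules} (n : ℕ) (f : M ⟶ A) (g : A ⟶ B) (hf : Function.Injective (Crv77.hmap k f n))
    (hg : Function.Injective (Crv77.hmap k g n)) (h0 : ∀ x, Crv77.hmap k (f ≫ g) n x = 0) :
    Subsingleton (Coh.HH S M n) :=
  subsingleton_of_forall_eq 0 fun x => hf (hg (by rw [Crv77.hmap_comp, h0 x, map_zero, map_zero]))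

variable {k : Type u} [Field k] [IsAlgClosed k] {C : Scheme.{u}} [C.Over (Spec (CommRingCat.of k))]
  [IsProper (C ↘ Spec (CommRingCat.of k))] [IsIntegral C] {h : CrvPic30.Setup k C}
  {κ : C ⟶ CohB1.ProjSpace 1 k} {g : ℕ} {D : Divisor k C.functionField}

omit [IsProper (C ↘ Spec (CommRingCat.of k))] in
/-- A line bundle on the line with positive pullback has no first cohomology. -/
theorem subsingleton_h1_of_pullback_pos (hD : HypSq53.Double h κ g D) {L : (CohB1.ProjSpace 1 k).Modules}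
    (hL : PicF.IsInvertible L) {s : ℤ} (hs : PicF.cl ((Scheme.Modules.pullback κ).obj L) = HypSq53.clD h D s)
    (hpos : 0 < s) : Subsingleton (Coh.HH (CohB1.ProjSpace 1 k) L 1) := by
  obtain ⟨d, ⟨e⟩⟩ := ASB64.PicProj.exists_iso_twist L hL
  rcases le_or_gt 0 d with hd | hd
  · letI : (CohB1.ProjSpace 1 k).Over (Spec (CommRingCat.of k)) := ⟨CohB1.ProjSpace.toSpec 1 k⟩
    have := Pn71.subsingleton_hh 1 k d 1 (by omega) (by omega)
    exact (Crv77.hEquiv k e 1).toEquiv.subsingleton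
  exfalso
  obtain ⟨m, rfl⟩ : ∃ m : ℕ, d = -(m : ℤ) := ⟨(-d).toNat, by omega⟩
  have h1 := HypSq53.isInvertible_O1 (k := k)
  have hpow : ∀ j : ℕ, PicF.cl (Twist.twistProjSpace 1 k (j : ℤ)) = PicF.cl (Twist.twistProjSpace 1 k 1) ^ j := by
    intro j
    induction j with
    | zero =>
      obtain ⟨e0⟩ := Var76.Reg.nonempty_twist_zero (n := 1) (A := k)
      rw [pow_zero, Nat.cast_zero, HypSq53.cl_eq_of_iso e0, FGA29.cl_one]
    | succ j ih =>
      obtain ⟨ej⟩ := Var76.Reg.nonempty_twist_add (n := 1) (A := k) (a := (j : ℤ)) (b := 1) (c := ((j + 1 : ℕ) : ℤ))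
        (by push_cast; rfl)
      rw [pow_succ, ← ih, ← FGA29.cl_tensor]
      exact (HypSq53.cl_eq_of_iso ej).symm
  have hm : PicF.cl (CohB1.tensorMod L (CohB1.tensorPow (Twist.twistProjSpace 1 k 1) m)) =
      PicF.cl (Coh.structureModule _) := by
    obtain ⟨e0⟩ := Var76.Reg.nonempty_twist_zero (n := 1) (A := k)
    obtain ⟨em⟩ := Var76.Reg.nonempty_twist_add (n := 1) (A := k) (a := -(m : ℤ)) (b := (m : ℤ)) (c := 0) (by ring)
    rw [FGA29.cl_tensor, FGA29.cl_tensorPow, ← hpow, HypSq53.cl_eq_of_iso e, ← FGA29.cl_tensor,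
      HypSq53.cl_eq_of_iso em, HypSq53.cl_eq_of_iso e0]
  have h2 := (HypSq53.cl_pullback_tensor κ hL (EGA73.isInvertible_tensorPow h1 m)).symm.trans
    ((HypSq53.cl_pullback_congr κ hm).trans (HypSq53.cl_pullback_one κ))
  rw [hs, HypSq53.cl_pullback_pow κ h1, show PicF.cl ((Scheme.Modules.pullback κ).obj (Twist.twistProjSpace 1 k 1)) =
    HypSq53.clD h D 1 from hD.cl_L, HypSq53.clD_pow, HypSq53.clD_mul, ← HypSq53.clD_zero (h := h) (D := D)] at h2
  have h3 := hD.euler_of_cl (M := h.O ((s + (m : ℤ) * 1) • D)) h2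
  rw [hD.euler_eq] at h3
  omega

variable [Smooth (C ↘ Spec (CommRingCat.of k))] [IsFinite κ] [Flat κ] {σ : C ⟶ C}
  {N ND : (pullback (C ↘ Spec (CommRingCat.of k)) (C ↘ Spec (CommRingCat.of k))).Modules}
  {ρ : ULift.{u} (Equiv.Perm (Fin 2)) →* Aut (pullback (C ↘ Spec (CommRingCat.of k)) (C ↘ Spec (CommRingCat.of k)))}
  (hρ : (ρ (ULift.up (Equiv.swap 0 1))).hom = (pullbackSymmetry (C ↘ Spec (CommRingCat.of k)) (C ↘ Spec (CommRingCat.of k))).hom)
  {Sq : Scheme.{u}} {π : pullback (C ↘ Spec (CommRingCat.of k)) (C ↘ Spec (CommRingCat.of k)) ⟶ Sq}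
  (hπ : SGA1.IsQuot ρ π) {q : Sq ⟶ Spec (CommRingCat.of k)}
  (hq : π ≫ q = pullback.fst (C ↘ Spec (CommRingCat.of k)) (C ↘ Spec (CommRingCat.of k)) ≫ (C ↘ Spec (CommRingCat.of k)))
  (h2 : (2 : k) ≠ 0) (hκ : κ ≫ CohB1.ProjSpace.toSpec 1 k = (C ↘ Spec (CommRingCat.of k)))
  (hκ2 : ∀ y : CohB1.ProjSpace 1 k, κ.finrank y = 2) (hσ : σ ≫ κ = κ) (hσ1 : σ ≠ 𝟙 C)
  (hσp : σ ≫ (C ↘ Spec (CommRingCat.of k)) = C ↘ Spec (CommRingCat.of k))
  (hD : HypSq53.Double h κ g D) (hN : PicF.IsInvertible N)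
  (hNinv : ClSub.IsInverseOf N (ClSub.idealMod (HypSq53.graph σ hσp).ker))
  {M : Sq.Modules} (hM : PicF.IsInvertible M)

include hρ hπ hq h2 hκ hκ2 hσ hσ1 hD hN hNinv hM in
theorem subsingleton_h1 {m r : ℕ} (hm : g ≤ m) (hpos : ((g : ℤ) - 1) * r < 2 * m)
    (e : PicF.cl ((Scheme.Modules.pullback π).obj M) = PicF.cl (HypSq53.twistBox κ N m r)) :
    Subsingleton (Coh.HH Sq M 1) := by
  letI : Sq.Over (Spec (CommRingCat.of k)) := ⟨q⟩
  letI := HypSq53.sqOver k C
  haveI : IsProper (Sq ↘ Spec (CommRingCat.of k)) := isProper_q hπ hq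
  haveI : IsProper ((pullback (C ↘ Spec (CommRingCat.of k)) (C ↘ Spec (CommRingCat.of k))) ↘ Spec (CommRingCat.of k)) :=
    HypSq53.isProper_square
  haveI := hπ.affine
  have hI := invol_of_quot hρ hπ h2
  have hF := Amp73.isInvertible_pullback π hM
  cases r with
  | zero =>
    obtain ⟨i⟩ := HypSq53.nonempty_iso_of_cl_eq (e.trans (HypSq53.cl_twistBox_zero m))
    haveI := (hD.subsingleton_boxPow hm hm).1
    haveI : Subsingleton (Coh.HH _ ((Scheme.Modules.pullback π).obj M) 1) :=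
      (Crv77.hEquiv k i 1).toEquiv.subsingleton
    obtain ⟨ee⟩ := nonempty_hh_split hρ hπ hq h2 hM 1
    haveI : Subsingleton (Coh.HH Sq M 1 × Coh.HH Sq (CohB1.tensorMod (invol_of_quot hρ hπ h2).E M) 1) :=
      ee.symm.toEquiv.subsingleton
    exact Function.Surjective.subsingleton
      (f := (Prod.fst : Coh.HH Sq M 1 × Coh.HH Sq (CohB1.tensorMod (invol_of_quot hρ hπ h2).E M) 1 → _))
      fun a => ⟨(a, 0), rfl⟩
  | succ r =>
    haveI := HypSq53.isClosedImmersion_graph σ hσp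
    haveI := Curves2.ProjLine.isIntegral k 1
    obtain ⟨eg, es, y, R, hc⟩ := HypSq53.exists_coord h2 h hκ hκ2 σ hσ hσ1 hσp
    -- the curve maps to the symmetric square through the line
    let Γ' := HypSq53.graph σ hσp
    have hinv : ∀ a, (involAct σ hc.invol a).hom ≫ Γ' ≫ π = Γ' ≫ π := fun a => by
      rcases involAct_hom σ hc.invol a with h1 | h1 <;> rw [h1]
      · exact Category.id_comp _
      · rw [← Category.assoc, show σ ≫ Γ' = Γ' ≫ (pullbackSymmetry (C ↘ Spec (CommRingCat.of k)) (C ↘ Spec (CommRingCat.of k))).hom from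
          pullback.hom_ext
            (by rw [Category.assoc, Category.assoc, pullback.lift_fst, pullbackSymmetry_hom_comp_fst, pullback.lift_snd, Category.comp_id])
            (by rw [Category.assoc, Category.assoc, pullback.lift_snd, pullbackSymmetry_hom_comp_snd, pullback.lift_fst, hc.invol]),
          Category.assoc, hI.comp]
    have hQ := isQuot_cover h2 hκ hσ hσp hc
    obtain ⟨j, hjc, -⟩ := Quot84.existsUnique_desc hQ (Γ' ≫ π) hinv
    haveI : IsAffineHom j := (Quot84.isAffineHom_iff hQ j).1 (hjc ▸ inferInstance)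
    letI : (CohB1.ProjSpace 1 k).Over (Spec (CommRingCat.of k)) := ⟨CohB1.ProjSpace.toSpec 1 k⟩
    have hj : j ≫ (Sq ↘ Spec (CommRingCat.of k)) = CohB1.ProjSpace.toSpec 1 k := by
      refine Quot84.eq_of_comp_eq hQ ?_
      rw [← Category.assoc, hjc, Category.assoc]
      show Γ' ≫ π ≫ q = _
      rw [hq, HypSq53.graph_over, hκ]
    have hpb : PicF.cl ((Scheme.Modules.pullback κ).obj ((Scheme.Modules.pullback j).obj M)) =
        HypSq53.clD h D (2 * m - ((g : ℤ) - 1) * ((r + 1 : ℕ) : ℤ)) := by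
      rw [HypSq53.cl_pullback_comp κ j hjc, ← HypSq53.cl_pullback_comp Γ' π rfl, HypSq53.cl_pullback_congr _ e,
        hD.cl_graph_twistBox hσ hN hNinv m (r + 1)]
    have hvan := subsingleton_h1_of_pullback_pos hD (Amp73.isInvertible_pullback j hM) hpb (by linarith)
    -- the sequence upstairs, pushed down
    have hM0 := HypSq53.isInvertible_twistBox (κ := κ) hN m r
    have hMN := EGA73.isInvertible_tensorMod hM0 hN
    obtain ⟨T, hT, ⟨i₁⟩, ⟨i₂⟩, ⟨i₃⟩⟩ := HypSq53.exists_seq Γ' hN hNinv hM0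
    haveI : T.X₁.IsQuasicoherent := (Crv77.isCoh_of_iso i₁.symm (Amp73.isCoh_of_isInvertible hM0)).1
    have hP := Frob53.shortExact_push_affine π hT
    haveI hX1 : Subsingleton (Coh.HH _ T.X₁ 1) := by
      haveI := hD.subsingleton_h1_twistBox (hσp := hσp) hσ hN hNinv hm r (by push_cast at hpos ⊢; linarith)
      exact (Crv77.hEquiv k i₁ 1).toEquiv.subsingleton
    haveI : Subsingleton (Coh.HH Sq ((Coh.push π).obj T.X₁) 1) := by
      obtain ⟨e₁⟩ := Var76.nonempty_hhLin_push (A := k) π hq T.X₁ (QCqs72.isQuasicoherent_pushforward _ _) 1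
      exact e₁.toEquiv.subsingleton
    have hb : Function.Injective (Crv77.hmap k (T.map (Scheme.Modules.pushforward π)).g 1) := by
      refine (injective_iff_map_eq_zero _).2 fun x hx => ?_
      obtain ⟨z, rfl⟩ := (Crv77.exact_f_g k hP 1 x).1 hx
      exact (congrArg _ (Subsingleton.elim (α := Coh.HH Sq ((Coh.push π).obj T.X₁) 1) z 0)).trans (map_zero _)
    obtain ⟨iM⟩ : Nonempty ((Scheme.Modules.pullback π).obj M ≅ T.X₂) := by
      obtain ⟨a⟩ := HypSq53.nonempty_iso_of_cl_eq (L := (Scheme.Modules.pullback π).obj M)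
        (M := CohB1.tensorMod (HypSq53.twistBox κ N m r) N)
        (e.trans ((HypSq53.cl_twistBox_succ m r).trans (FGA29.cl_tensor _ _).symm))
      exact ⟨a ≪≫ i₂.symm⟩
    let eT : CohB1.tensorMod (OX π) M ≅ (Coh.push π).obj T.X₂ :=
      ValVan29.projIso π _ M hM ≪≫ (Coh.push π).mapIso (EGA73.tensUnitLeft _ ≪≫ iM)
    let f : M ⟶ (Coh.push π).obj T.X₂ :=
      (EGA73.tensUnitLeft M).inv ≫ Var76.Reg.whiskR (unit π) M ≫ eT.hom
    have hretr : f ≫ eT.inv ≫ Var76.Reg.whiskR hI.mean M ≫ (EGA73.tensUnitLeft M).hom = 𝟙 M := by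
      simp only [f, Category.assoc, Iso.hom_inv_id_assoc]
      rw [← Category.assoc (Var76.Reg.whiskR (unit π) M), ← Var76.Reg.whiskR_comp, hI.unit_mean,
        Var76.Reg.whiskR_id, Category.id_comp, Iso.inv_hom_id]
    have hf : Function.Injective (Crv77.hmap k f 1) :=
      Function.LeftInverse.injective
        (g := Crv77.hmap k (eT.inv ≫ Var76.Reg.whiskR hI.mean M ≫ (EGA73.tensUnitLeft M).hom) 1)
        fun x => by rw [Crv77.hmap_comp, hretr, Crv77.hmap_id]
    refine subsingleton_of_injective_comp k 1 f (T.map (Scheme.Modules.pushforward π)).g hf hb fun x => ?_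
    -- everything lands in the direct image from the line
    let Q := (Scheme.Modules.pullback Γ').obj (CohB1.tensorMod (HypSq53.twistBox κ N m r) N)
    let eQ : (Scheme.Modules.pushforward π).obj T.X₃ ≅
        (Scheme.Modules.pushforward j).obj ((Scheme.Modules.pushforward κ).obj Q) :=
      (Scheme.Modules.pushforward π).mapIso i₃ ≪≫ (Scheme.Modules.pushforwardComp Γ' π).app Q ≪≫
        (Scheme.Modules.pushforwardCongr hjc.symm).app Q ≪≫ (Scheme.Modules.pushforwardComp κ j).symm.app Q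
    have h0 := hmap_eq_zero_of_factor k j hj hM
      (f ≫ (T.map (Scheme.Modules.pushforward π)).g ≫ eQ.hom) 1 hvan x
    rw [← Category.assoc, ← Crv77.hmap_comp] at h0
    exact (Crv77.hEquiv k eQ 1).injective (h0.trans (map_zero _).symm)

include hρ hπ hq h2 hσ hD hN hNinv hM in
omit [Smooth (C ↘ Spec (CommRingCat.of k))] [Flat κ] in
theorem subsingleton_h2 {m : ℕ} (hm : g ≤ m) (r : ℕ)
    (e : PicF.cl ((Scheme.Modules.pullback π).obj M) = PicF.cl (HypSq53.twistBox κ N m r)) :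
    Subsingleton (Coh.HH Sq M 2) := by
  letI : Sq.Over (Spec (CommRingCat.of k)) := ⟨q⟩
  letI := HypSq53.sqOver k C
  obtain ⟨i⟩ := HypSq53.nonempty_iso_of_cl_eq e
  haveI := hD.subsingleton_h2_twistBox (hσp := hσp) hσ hN hNinv hm r
  haveI : Subsingleton (Coh.HH _ ((Scheme.Modules.pullback π).obj M) 2) :=
    (Crv77.hEquiv k i 2).toEquiv.subsingleton
  obtain ⟨ee⟩ := nonempty_hh_split hρ hπ hq h2 hM 2
  haveI : Subsingleton (Coh.HH Sq M 2 × Coh.HH Sq (CohB1.tensorMod (invol_of_quot hρ hπ h2).E M) 2) :=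
    ee.symm.toEquiv.subsingleton
  exact Function.Surjective.subsingleton
    (f := (Prod.fst : Coh.HH Sq M 2 × Coh.HH Sq (CohB1.tensorMod (invol_of_quot hρ hπ h2).E M) 2 → _))
    fun a => ⟨(a, 0), rfl⟩

include hρ hπ hq h2 hκ hκ2 hσ hσ1 hD hN hNinv hM in
theorem finrank_h0_eq_euler {m r : ℕ} (hm : g ≤ m) (hpos : ((g : ℤ) - 1) * r < 2 * m)
    (e : PicF.cl ((Scheme.Modules.pullback π).obj M) = PicF.cl (HypSq53.twistBox κ N m r)) :
    letI : Sq.Over (Spec (CommRingCat.of k)) := ⟨q⟩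
    (Module.finrank k (Coh.HH Sq M 0) : ℤ) = Curv2.euler k Sq M := by
  letI : Sq.Over (Spec (CommRingCat.of k)) := ⟨q⟩
  have := subsingleton_h1 hρ hπ hq h2 hκ hκ2 hσ hσ1 hσp hD hN hNinv hM hm hpos e
  have := subsingleton_h2 hρ hπ hq h2 hσ hσp hD hN hNinv hM hm r e
  rw [(finBdd (κ := κ) hρ hπ hq h2 hM).euler_eq, Finset.sum_range_succ, Finset.sum_range_succ, Finset.sum_range_succ,
    Finset.sum_range_zero, Module.finrank_zero_of_subsingleton (M := Coh.HH Sq M 1),
    Module.finrank_zero_of_subsingleton (M := Coh.HH Sq M 2)]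
  simp

end Groth.Agent.SymSq53

end
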