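import Groth.Agent.SymSq53.Euler
import Groth.Agent.HypSq53.FibreEuler
import Groth.Agent.HypSq53.Invol
import Groth.Agent.HypSq53.DiagGraph
import Groth.Agent.HypSq53.Setting
import Groth.Agent.HypSq53.Rows

/-!
# Riemann-Roch on the symmetric square of a hyperelliptic curve
-/

set_option autoImplicit false
set_option backward.isDefEq.respectTransparency.types false
set_option linter.style.haveILetI false
set_option maxSynthPendingDepth 6

universe u

open CategoryTheory CategoryTheory.Limits AlgebraicGeometry TopologicalSpace Opposite FunFld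
open scoped Groth.Agent.FGA29

noncomputable section

namespace Groth.Agent.SymSq53

attribute [local instance] CrvPic30.ffAlg

variable {k : Type u} [Field k] [IsAlgClosed k] {C : Scheme.{u}} [C.Over (Spec (CommRingCat.of k))]
  [IsProper (C ↘ Spec (CommRingCat.of k))] [Smooth (C ↘ Spec (CommRingCat.of k))]

/-- The data of a hyperelliptic square: the inverse of the diagonal and the trace of the graph on it. -/
structure Hyper [IsIntegral C] (h : CrvPic30.Setup k C) (κ : C ⟶ CohB1.ProjSpace 1 k) (g : ℕ)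
    (D : Divisor k C.functionField) (σ : C ⟶ C)
    (N ND : (pullback (C ↘ Spec (CommRingCat.of k)) (C ↘ Spec (CommRingCat.of k))).Modules) : Prop where
  double : HypSq53.Double h κ g D
  invol : σ ≫ σ = 𝟙 C
  invND : PicF.IsInvertible ND
  ndInv : ClSub.IsInverseOf ND (ClSub.idealMod (HypSq53.graph (𝟙 C) (Category.id_comp (C ↘ Spec (CommRingCat.of k)))).ker)
  sum : PicF.cl ND * PicF.cl N =
    PicF.cl (HypSq53.boxMod (C ↘ Spec (CommRingCat.of k)) (HypSq53.Lh κ) (HypSq53.Lh κ))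
  onDiag : PicF.cl ((Scheme.Modules.pullback (HypSq53.graph (𝟙 C) (Category.id_comp (C ↘ Spec (CommRingCat.of k))))).obj N) =
    HypSq53.clD h D ((g : ℤ) + 1)

theorem exists_hyper [ConnectedSpace C] (h2 : (2 : k) ≠ 0) (hdim : topologicalKrullDim C = 1) {g : ℕ} (hg : 2 ≤ g)
    (hgen : Curv2.genus k C = g) (κ : C ⟶ CohB1.ProjSpace 1 k)
    (hκ : κ ≫ CohB1.ProjSpace.toSpec 1 k = C ↘ Spec (CommRingCat.of k)) [IsFinite κ] [Flat κ]
    (hκ2 : ∀ y : CohB1.ProjSpace 1 k, κ.finrank y = 2) (σ : C ⟶ C) (hσ : σ ≫ κ = κ) (hσ1 : σ ≠ 𝟙 C)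
    (hσp : σ ≫ (C ↘ Spec (CommRingCat.of k)) = C ↘ Spec (CommRingCat.of k))
    {N : (pullback (C ↘ Spec (CommRingCat.of k)) (C ↘ Spec (CommRingCat.of k))).Modules} (hN : PicF.IsInvertible N)
    (hNinv : ClSub.IsInverseOf N (ClSub.idealMod (HypSq53.graph σ hσp).ker)) :
    ∃ (_ : IsIntegral C) (h : CrvPic30.Setup k C) (D : Divisor k C.functionField)
      (ND : (pullback (C ↘ Spec (CommRingCat.of k)) (C ↘ Spec (CommRingCat.of k))).Modules),
      Hyper h κ g D σ N ND := by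
  obtain ⟨_, h, D, hD⟩ := HypSq53.exists_setting hdim hg hgen κ hκ hκ2
  have := Curves2.ProjLine.isIntegral k 1
  obtain ⟨e, es, y, R, hc⟩ := HypSq53.exists_coord h2 h hκ hκ2 σ hσ hσ1 hσp
  obtain ⟨ND, hND, hNDinv⟩ := exists_diag_inverse hσp hc.invol hN hNinv
  have hsum := hc.cl_diag_graph h2 hκ hσ hσp hNinv hNDinv
  refine ⟨_, h, D, ND, hD, hc.invol, hND, hNDinv, hsum, ?_⟩
  let dg := HypSq53.graph (𝟙 C) (Category.id_comp (C ↘ Spec (CommRingCat.of k)))
  have h1 := (HypSq53.cl_pullback_tensor dg hND hN).symm.trans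
    (HypSq53.cl_pullback_congr dg ((FGA29.cl_tensor _ _).trans hsum))
  rw [hD.cl_normal (𝟙 C) (Category.id_comp _) (Category.id_comp κ) hND hNDinv] at h1
  have hL := HypSq53.isInvertible_Lh κ
  rw [HypSq53.boxMod, HypSq53.cl_pullback_tensor dg (Amp73.isInvertible_pullback _ hL) (Amp73.isInvertible_pullback _ hL),
    HypSq53.cl_pullback_comp _ _ (pullback.lift_fst _ _ _), HypSq53.cl_pullback_comp _ _ (pullback.lift_snd _ _ _),
    HypSq53.cl_pullback_id, hD.cl_L, HypSq53.clD_mul] at h1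
  have h2' := congrArg (HypSq53.clD h D ((g : ℤ) - 1) * ·) h1
  simp only [← mul_assoc, HypSq53.clD_mul, add_neg_cancel, HypSq53.clD_zero, one_mul] at h2'
  rw [h2']
  congr 1
  ring

variable [IsIntegral C] {h : CrvPic30.Setup k C} {κ : C ⟶ CohB1.ProjSpace 1 k} [IsFinite κ] {g : ℕ}
  {D : Divisor k C.functionField} {σ : C ⟶ C}
  {N ND : (pullback (C ↘ Spec (CommRingCat.of k)) (C ↘ Spec (CommRingCat.of k))).Modules}
  {ρ : ULift.{u} (Equiv.Perm (Fin 2)) →* Aut (pullback (C ↘ Spec (CommRingCat.of k)) (C ↘ Spec (CommRingCat.of k)))}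
  (hρ : (ρ (ULift.up (Equiv.swap 0 1))).hom = (pullbackSymmetry (C ↘ Spec (CommRingCat.of k)) (C ↘ Spec (CommRingCat.of k))).hom)
  {Sq : Scheme.{u}} {π : pullback (C ↘ Spec (CommRingCat.of k)) (C ↘ Spec (CommRingCat.of k)) ⟶ Sq}
  (hπ : SGA1.IsQuot ρ π) {q : Sq ⟶ Spec (CommRingCat.of k)}
  (hq : π ≫ q = pullback.fst (C ↘ Spec (CommRingCat.of k)) (C ↘ Spec (CommRingCat.of k)) ≫ (C ↘ Spec (CommRingCat.of k)))
  (h2 : (2 : k) ≠ 0) (hdim : topologicalKrullDim C = 1) (H : Hyper h κ g D σ N ND)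
  (hσ : σ ≫ κ = κ) (hσp : σ ≫ (C ↘ Spec (CommRingCat.of k)) = C ↘ Spec (CommRingCat.of k))
  (hN : PicF.IsInvertible N) (hNinv : ClSub.IsInverseOf N (ClSub.idealMod (HypSq53.graph σ hσp).ker))
  {M : Sq.Modules} (hM : PicF.IsInvertible M)

include hρ hπ hq h2 hdim H hσ hN hNinv hM

/-- `χ` of a descent of `F_m ⊗ N^r`. -/
theorem euler_of_twistBox (m r : ℕ)
    (e : PicF.cl ((Scheme.Modules.pullback π).obj M) = PicF.cl (HypSq53.twistBox κ N m r)) :
    letI : Sq.Over (Spec (CommRingCat.of k)) := ⟨q⟩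
    2 * Curv2.euler k Sq M = (2 * (m : ℤ) - ((g : ℤ) - 1) + 1) * (2 * (m : ℤ) - ((g : ℤ) - 1)) +
      2 * (r : ℤ) * (2 * m + 1) - ((g : ℤ) - 1) * r * (r + 1) := by
  letI : Sq.Over (Spec (CommRingCat.of k)) := ⟨q⟩
  letI := HypSq53.sqOver k C
  have hD := H.double
  have hC : PicF.cl ((Scheme.Modules.pullback (HypSq53.graph (𝟙 C) (Category.id_comp (C ↘ Spec (CommRingCat.of k))))).obj
      (HypSq53.twistBox κ N m r)) = HypSq53.clD h D (2 * m + r * ((g : ℤ) + 1)) := by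
    rw [HypSq53.twistBox, HypSq53.cl_pullback_tensor _ (EGA73.isInvertible_tensorMod
        (Amp73.isInvertible_pullback _ (EGA73.isInvertible_tensorPow (HypSq53.isInvertible_Lh κ) m))
        (Amp73.isInvertible_pullback _ (EGA73.isInvertible_tensorPow (HypSq53.isInvertible_Lh κ) m)))
        (EGA73.isInvertible_tensorPow hN r)]
    rw [(hD.cl_graph_box (𝟙 C) (Category.id_comp _) (Category.id_comp κ) m m : PicF.cl ((Scheme.Modules.pullback
        (HypSq53.graph (𝟙 C) (Category.id_comp (C ↘ Spec (CommRingCat.of k))))).obj (HypSq53.boxMod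
          (C ↘ Spec (CommRingCat.of k)) (CohB1.tensorPow (HypSq53.Lh κ) m) (CohB1.tensorPow (HypSq53.Lh κ) m))) = _),
      HypSq53.cl_pullback_pow _ hN, H.onDiag, HypSq53.clD_pow, HypSq53.clD_mul]
    congr 1
    ring
  have h1 := euler_formula (κ := κ) hρ hπ hq h2 hdim hD H.invND H.ndInv hM
  rw [FGA29.euler_cl k e, hD.euler_twistBox hσ hN hNinv (hD.euler_boxPow_all hdim m) r,
    hD.euler_of_cl ((HypSq53.cl_pullback_congr _ e).trans hC)] at h1
  linarith

omit [IsFinite κ] hρ hπ hq h2 hσ hNinv hM in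
/-- The class of the pullback in the diagonal direction. -/
theorem euler_diag_fibresMod {x : Spec (CommRingCat.of k) ⟶ C}
    (hx : x ≫ (C ↘ Spec (CommRingCat.of k)) = 𝟙 (Spec (CommRingCat.of k))) {A : C.Modules} (hA : PicF.IsInvertible A)
    (hAinv : ClSub.IsInverseOf A (ClSub.idealMod x.ker)) (m r : ℕ) :
    Curv2.euler k C ((Scheme.Modules.pullback (HypSq53.graph (𝟙 C) (Category.id_comp (C ↘ Spec (CommRingCat.of k))))).obj
      (CohB1.tensorMod (HypSq53.fibresMod (k := k) A m m) (CohB1.tensorPow N r))) =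
        2 * (m : ℤ) + 2 * r * ((g : ℤ) + 1) + 1 - g := by
  have hD := H.double
  have hAm := EGA73.isInvertible_tensorPow hA m
  rw [FGA29.euler_cl k (G := CohB1.tensorMod (h.O (((r : ℤ) * ((g : ℤ) + 1)) • D)) (CohB1.tensorPow A (m + m))) (by
    rw [HypSq53.cl_pullback_tensor _ (HypSq53.isInvertible_fibresMod (k := k) hA m m) (EGA73.isInvertible_tensorPow hN r),
      HypSq53.fibresMod, HypSq53.boxMod,
      HypSq53.cl_pullback_tensor _ (Amp73.isInvertible_pullback _ hAm) (Amp73.isInvertible_pullback _ hAm),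
      HypSq53.cl_pullback_comp _ _ (pullback.lift_fst _ _ _), HypSq53.cl_pullback_comp _ _ (pullback.lift_snd _ _ _),
      HypSq53.cl_pullback_id, HypSq53.cl_pullback_pow _ hN, H.onDiag, HypSq53.clD_pow, FGA29.cl_tensor,
      FGA29.cl_tensorPow, FGA29.cl_tensorPow, pow_add, mul_comm]),
    HypSq53.euler_tensorPow_point hx hA hAinv hdim (h.isInvertible_O _), hD.euler_eq]
  push_cast
  ring

/-- `χ` of a descent of `m(V + H) + rΓ`. -/
theorem euler_of_fibresMod {x : Spec (CommRingCat.of k) ⟶ C}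
    (hx : x ≫ (C ↘ Spec (CommRingCat.of k)) = 𝟙 (Spec (CommRingCat.of k))) {A : C.Modules} (hA : PicF.IsInvertible A)
    (hAinv : ClSub.IsInverseOf A (ClSub.idealMod x.ker)) (m r : ℕ)
    (e : PicF.cl ((Scheme.Modules.pullback π).obj M) =
      PicF.cl (CohB1.tensorMod (HypSq53.fibresMod (k := k) A m m) (CohB1.tensorPow N r))) :
    letI : Sq.Over (Spec (CommRingCat.of k)) := ⟨q⟩
    2 * Curv2.euler k Sq M = ((m : ℤ) - ((g : ℤ) - 1)) * ((m : ℤ) - ((g : ℤ) - 1) + 1) + 2 * (r : ℤ) * (m + 1) -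
      ((g : ℤ) - 1) * r * (r + 1) := by
  letI : Sq.Over (Spec (CommRingCat.of k)) := ⟨q⟩
  letI := HypSq53.sqOver k C
  have hD := H.double
  have h1 := euler_formula (κ := κ) hρ hπ hq h2 hdim hD H.invND H.ndInv hM
  rw [FGA29.euler_cl k e, hD.euler_fibresMod_twist hdim hx hA hAinv σ hσp hσ H.invol hN hNinv m m r,
    FGA29.euler_cl k (HypSq53.cl_pullback_congr _ e),
    euler_diag_fibresMod hdim H hN hx hA hAinv m r] at h1
  linarith

end Groth.Agent.SymSq53

end
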