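import Groth.Agent.SymSq53.Rows

/-!
# Intersection numbers on the symmetric square
-/

set_option autoImplicit false
set_option backward.isDefEq.respectTransparency.types false
set_option linter.style.haveILetI false
set_option maxSynthPendingDepth 6

universe u

open CategoryTheory CategoryTheory.Limits AlgebraicGeometry TopologicalSpace Opposite FunFld
open scoped Groth.Agent.FGA29

noncomputable section

namespace Groth.Agent.SymSq53

attribute [local instance] CrvPic30.ffAlg

variable {k : Type u} [Field k] [IsAlgClosed k] {C : Scheme.{u}} [C.Over (Spec (CommRingCat.of k))]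
  [IsProper (C ↘ Spec (CommRingCat.of k))] [IsIntegral C] {h : CrvPic30.Setup k C}
  {κ : C ⟶ CohB1.ProjSpace 1 k} [IsFinite κ] {g : ℕ} {D : Divisor k C.functionField}
  {ND : (pullback (C ↘ Spec (CommRingCat.of k)) (C ↘ Spec (CommRingCat.of k))).Modules}
  (hD : HypSq53.Double h κ g D) (hdim : topologicalKrullDim C = 1) (hND : PicF.IsInvertible ND)
  (hNDinv : ClSub.IsInverseOf ND (ClSub.idealMod (HypSq53.graph (𝟙 C) (Category.id_comp (C ↘ Spec (CommRingCat.of k)))).ker))

include hD hdim hND hNDinv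

omit [IsFinite κ] in
/-- `(Δ · B)` is the degree of `B` on the diagonal. -/
theorem intE_diag {B : (pullback (C ↘ Spec (CommRingCat.of k)) (C ↘ Spec (CommRingCat.of k))).Modules}
    (hB : PicF.IsInvertible B) :
    letI := HypSq53.sqOver k C
    Cyc90.Dev.intE k ![ND, B] (Coh.structureModule _) =
      Curv2.euler k C ((Scheme.Modules.pullback (HypSq53.graph (𝟙 C) (Category.id_comp (C ↘ Spec (CommRingCat.of k))))).obj B) -
        (1 - (g : ℤ)) := by
  letI := HypSq53.sqOver k C
  haveI : IsProper ((pullback (C ↘ Spec (CommRingCat.of k)) (C ↘ Spec (CommRingCat.of k))) ↘ Spec (CommRingCat.of k)) :=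
    HypSq53.isProper_square
  haveI := HypSq53.isClosedImmersion_graph (𝟙 C) (Category.id_comp (C ↘ Spec (CommRingCat.of k)))
  have := h.isNoetherian
  let dg := HypSq53.graph (𝟙 C) (Category.id_comp (C ↘ Spec (CommRingCat.of k)))
  rw [HypSq53.intE_inverse k dg (HypSq53.graph_over (𝟙 C) _) hND hNDinv hB,
    FGA29.euler_cl k ((HypSq53.cl_pullback_tensor dg hB hND).trans (FGA29.cl_tensor _ _).symm)]
  have h1 := h.curveCoh.euler_tensor_sub hdim.le (Amp73.isInvertible_pullback dg hB)
    (Amp73.isInvertible_pullback dg hND)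
  have h2 : Curv2.euler k C (Coh.structureModule C) = 1 - (g : ℤ) := by
    rw [hD.euler_of_cl (s := 0) (by rw [HypSq53.clD_zero, FGA29.cl_one])]
    ring
  rw [← h2]
  linarith

omit hD hND hNDinv [IsFinite κ] in
theorem intE_congr_pair {A A' B B' : (pullback (C ↘ Spec (CommRingCat.of k)) (C ↘ Spec (CommRingCat.of k))).Modules}
    (hA : PicF.cl A = PicF.cl A') (hB : PicF.cl B = PicF.cl B') :
    letI := HypSq53.sqOver k C
    Cyc90.Dev.intE k ![A, B] (Coh.structureModule _) = Cyc90.Dev.intE k ![A', B'] (Coh.structureModule _) := by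
  letI := HypSq53.sqOver k C
  rw [HypSq53.intE_pair, HypSq53.intE_pair, FGA29.euler_cl k hA, FGA29.euler_cl k hB,
    FGA29.euler_cl k (F := CohB1.tensorMod A B) (G := CohB1.tensorMod A' B') (by rw [FGA29.cl_tensor, FGA29.cl_tensor, hA, hB])]

omit hD [IsFinite κ] in
theorem intE_double {B : (pullback (C ↘ Spec (CommRingCat.of k)) (C ↘ Spec (CommRingCat.of k))).Modules}
    (hB : PicF.IsInvertible B) :
    letI := HypSq53.sqOver k C
    Cyc90.Dev.intE k ![CohB1.tensorMod ND ND, B] (Coh.structureModule _) =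
      2 * Cyc90.Dev.intE k ![ND, B] (Coh.structureModule _) := by
  letI := HypSq53.sqOver k C
  haveI : IsProper ((pullback (C ↘ Spec (CommRingCat.of k)) (C ↘ Spec (CommRingCat.of k))) ↘ Spec (CommRingCat.of k)) :=
    HypSq53.isProper_square
  show Cyc90.Dev.intE k (Fin.cons (CohB1.tensorMod ND ND) ![B]) _ = 2 * Cyc90.Dev.intE k (Fin.cons ND ![B]) _
  rw [FGA29.intE_add_left k (fun i => by fin_cases i; exact hB) hND hND Crv77.isCoh_structureModule
    (((topologicalKrullDim_subspace_le _ _).trans (HypSq53.dim_square_le hdim)).trans_eq (by norm_num))]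
  ring

variable {ρ : ULift.{u} (Equiv.Perm (Fin 2)) →* Aut (pullback (C ↘ Spec (CommRingCat.of k)) (C ↘ Spec (CommRingCat.of k)))}
  (hρ : (ρ (ULift.up (Equiv.swap 0 1))).hom = (pullbackSymmetry (C ↘ Spec (CommRingCat.of k)) (C ↘ Spec (CommRingCat.of k))).hom)
  {Sq : Scheme.{u}} {π : pullback (C ↘ Spec (CommRingCat.of k)) (C ↘ Spec (CommRingCat.of k)) ⟶ Sq}
  (hπ : SGA1.IsQuot ρ π) {q : Sq ⟶ Spec (CommRingCat.of k)}
  (hq : π ≫ q = pullback.fst (C ↘ Spec (CommRingCat.of k)) (C ↘ Spec (CommRingCat.of k)) ≫ (C ↘ Spec (CommRingCat.of k)))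
  (h2 : (2 : k) ≠ 0)

include hρ hπ hq h2 in
/-- Intersection numbers downstairs are half of those upstairs. -/
theorem two_mul_intNum {A B : Sq.Modules} (hA : PicF.IsInvertible A) (hB : PicF.IsInvertible B)
    {a b : (pullback (C ↘ Spec (CommRingCat.of k)) (C ↘ Spec (CommRingCat.of k))).Modules}
    (ea : PicF.cl ((Scheme.Modules.pullback π).obj A) = PicF.cl a)
    (eb : PicF.cl ((Scheme.Modules.pullback π).obj B) = PicF.cl b) :
    letI : Sq.Over (Spec (CommRingCat.of k)) := ⟨q⟩
    letI := HypSq53.sqOver k C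
    2 * FGA.intNum k Sq 2 ![A, B] (Coh.structureModule Sq) = Cyc90.Dev.intE k ![a, b] (Coh.structureModule _) := by
  letI : Sq.Over (Spec (CommRingCat.of k)) := ⟨q⟩
  letI := HypSq53.sqOver k C
  haveI : IsProper (Sq ↘ Spec (CommRingCat.of k)) := isProper_q hπ hq
  haveI : IsProper ((pullback (C ↘ Spec (CommRingCat.of k)) (C ↘ Spec (CommRingCat.of k))) ↘ Spec (CommRingCat.of k)) :=
    HypSq53.isProper_square
  rw [← intE_congr_pair hdim ea eb,
    FGA29.intNum_eq_intE k (d := 2) (dim_le hπ hdim) (fun i => by fin_cases i <;> assumption) Crv77.isCoh_structureModule,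
    HypSq53.intE_pair, HypSq53.intE_pair]
  let dg := HypSq53.graph (𝟙 C) (Category.id_comp (C ↘ Spec (CommRingCat.of k)))
  let F := fun M : Sq.Modules => (Scheme.Modules.pullback π).obj M
  have iA := Amp73.isInvertible_pullback π hA
  have iB := Amp73.isInvertible_pullback π hB
  have hT := HypSq53.cl_pullback_tensor π hA hB
  have fO := euler_formula (κ := κ) hρ hπ hq h2 hdim hD hND hNDinv (EGA73.isInvertible_structureModule (X := Sq))
  have fA := euler_formula (κ := κ) hρ hπ hq h2 hdim hD hND hNDinv hA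
  have fB := euler_formula (κ := κ) hρ hπ hq h2 hdim hD hND hNDinv hB
  have fAB := euler_formula (κ := κ) hρ hπ hq h2 hdim hD hND hNDinv (EGA73.isInvertible_tensorMod hA hB)
  have := h.isNoetherian
  have hadd := h.curveCoh.euler_tensor_sub hdim.le (Amp73.isInvertible_pullback dg iA) (Amp73.isInvertible_pullback dg iB)
  have o1 : Curv2.euler k _ (F (Coh.structureModule Sq)) = Curv2.euler k _ (Coh.structureModule _) :=
    Crv77.euler_congr (PicLoc.pullbackStructureIso π)
  have o2 : Curv2.euler k C ((Scheme.Modules.pullback dg).obj (F (Coh.structureModule Sq))) =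
      Curv2.euler k C (Coh.structureModule C) :=
    (Crv77.euler_congr ((Scheme.Modules.pullback dg).mapIso (PicLoc.pullbackStructureIso π))).trans
      (Crv77.euler_congr (PicLoc.pullbackStructureIso dg))
  have t1 : Curv2.euler k _ (F (CohB1.tensorMod A B)) = Curv2.euler k _ (CohB1.tensorMod (F A) (F B)) :=
    FGA29.euler_cl k (hT.trans (FGA29.cl_tensor _ _).symm)
  have t2 : Curv2.euler k C ((Scheme.Modules.pullback dg).obj (F (CohB1.tensorMod A B))) =
      Curv2.euler k C (CohB1.tensorMod ((Scheme.Modules.pullback dg).obj (F A)) ((Scheme.Modules.pullback dg).obj (F B))) :=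
    FGA29.euler_cl k ((HypSq53.cl_pullback_congr dg (hT.trans (FGA29.cl_tensor _ _).symm)).trans
      ((HypSq53.cl_pullback_tensor dg iA iB).trans (FGA29.cl_tensor _ _).symm))
  simp only [F, dg] at *
  linarith

end Groth.Agent.SymSq53

end
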