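import Groth.Agent.SymSq53.Canon
import Groth.Agent.SymSq53.IntTable

/-!
# The canonical class of the symmetric square
-/

set_option autoImplicit false
set_option backward.isDefEq.respectTransparency.types false
set_option linter.style.haveILetI false
set_option maxSynthPendingDepth 6

universe u

open CategoryTheory CategoryTheory.Limits AlgebraicGeometry TopologicalSpace Opposite FunFld
open scoped Groth.Agent.FGA29

noncomputable section

namespace Groth.Agent.SymSq53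

attribute [local instance] CrvPic30.ffAlg

variable {k : Type u} [Field k] [IsAlgClosed k] {C : Scheme.{u}} [C.Over (Spec (CommRingCat.of k))]
  [IsProper (C ↘ Spec (CommRingCat.of k))] [Smooth (C ↘ Spec (CommRingCat.of k))] [IsIntegral C]
  {h : CrvPic30.Setup k C} {κ : C ⟶ CohB1.ProjSpace 1 k} [IsFinite κ] {g : ℕ}
  {D : Divisor k C.functionField} {σ : C ⟶ C}
  {N ND : (pullback (C ↘ Spec (CommRingCat.of k)) (C ↘ Spec (CommRingCat.of k))).Modules}
  {ρ : ULift.{u} (Equiv.Perm (Fin 2)) →* Aut (pullback (C ↘ Spec (CommRingCat.of k)) (C ↘ Spec (CommRingCat.of k)))}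
  (hρ : (ρ (ULift.up (Equiv.swap 0 1))).hom = (pullbackSymmetry (C ↘ Spec (CommRingCat.of k)) (C ↘ Spec (CommRingCat.of k))).hom)
  {Sq : Scheme.{u}} {π : pullback (C ↘ Spec (CommRingCat.of k)) (C ↘ Spec (CommRingCat.of k)) ⟶ Sq}
  (hπ : SGA1.IsQuot ρ π) {q : Sq ⟶ Spec (CommRingCat.of k)}
  (hq : π ≫ q = pullback.fst (C ↘ Spec (CommRingCat.of k)) (C ↘ Spec (CommRingCat.of k)) ≫ (C ↘ Spec (CommRingCat.of k)))
  (h2 : (2 : k) ≠ 0) (hdim : topologicalKrullDim C = 1) (H : Hyper h κ g D σ N ND)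

include hρ hπ hq h2 hdim H in
/-- The canonical class upstairs is `(g - 2) F + Γ`. -/
theorem cl_pullback_canonical (hN : PicF.IsInvertible N) (hg : 2 ≤ g) {W : Sq.Modules}
    (hW : ExtPow.IsExtPow 2 (Omega.sheaf q) W) :
    PicF.IsInvertible W ∧
      PicF.cl ((Scheme.Modules.pullback π).obj W) = PicF.cl (HypSq53.twistBox κ N (g - 2) 1) := by
  let p := C ↘ Spec (CommRingCat.of k)
  have hD := H.double
  obtain ⟨eΩ⟩ := hD.omega_iso
  have hΩ : PicF.IsInvertible (Omega.sheaf p) := EGA73.isInvertible_of_iso eΩ.symm (h.isInvertible_O _)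
  have hI : PicF.IsInvertible (ClSub.idealMod (HypSq53.graph (𝟙 C) (Category.id_comp p)).ker) := by
    obtain ⟨e⟩ := H.ndInv
    exact Inv57.isInvertible_of_tensorMod_iso (EGA73.tensComm _ ND ≪≫ e)
  obtain ⟨hWinv, ⟨e⟩⟩ := nonempty_pullback_canonical hρ hπ h2 hq hdim hΩ hI hW
  refine ⟨hWinv, ?_⟩
  have hL := HypSq53.isInvertible_Lh κ
  have hΩL : PicF.cl (Omega.sheaf p) = PicF.cl (CohB1.tensorPow (HypSq53.Lh κ) (g - 1)) := by
    rw [HypSq53.cl_eq_of_iso eΩ, hD.cl_pow, Nat.cast_sub (by omega : 1 ≤ g), Nat.cast_one]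
  rw [HypSq53.cl_eq_of_iso e, FGA29.cl_tensor, HypSq53.boxMod, FGA29.cl_tensor,
    HypSq53.cl_pullback_congr _ hΩL, HypSq53.cl_pullback_congr (pullback.snd p p) hΩL, HypSq53.twistBox,
    FGA29.cl_tensor, HypSq53.boxMod, FGA29.cl_tensor, FGA29.cl_tensorPow, pow_one,
    HypSq53.cl_pullback_pow _ hL, HypSq53.cl_pullback_pow _ hL, HypSq53.cl_pullback_pow _ hL,
    HypSq53.cl_pullback_pow _ hL]
  have hi : PicF.cl ND * PicF.cl (ClSub.idealMod (HypSq53.graph (𝟙 C) (Category.id_comp p)).ker) = 1 :=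
    HypSq53.cl_inverse H.ndInv
  have hsum := H.sum
  rw [HypSq53.boxMod, FGA29.cl_tensor] at hsum
  obtain ⟨m, rfl⟩ : ∃ m, g = m + 2 := ⟨g - 2, by omega⟩
  simp only [Nat.add_sub_cancel, show m + 2 - 1 = m + 1 by omega, pow_succ]
  set a := PicF.cl ((Scheme.Modules.pullback (pullback.fst p p)).obj (HypSq53.Lh κ))
  set b := PicF.cl ((Scheme.Modules.pullback (pullback.snd p p)).obj (HypSq53.Lh κ))
  set I := PicF.cl (ClSub.idealMod (HypSq53.graph (𝟙 C) (Category.id_comp p)).ker)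
  calc a ^ m * a * (b ^ m * b) * I = a ^ m * b ^ m * ((a * b) * I) := by
        rw [mul_mul_mul_comm, mul_assoc]
    _ = a ^ m * b ^ m * ((PicF.cl ND * PicF.cl N) * I) := by rw [hsum]
    _ = a ^ m * b ^ m * (PicF.cl N * (PicF.cl ND * I)) := by
        rw [mul_comm (PicF.cl ND) (PicF.cl N), mul_assoc (PicF.cl N)]
    _ = a ^ m * b ^ m * PicF.cl N := by rw [hi, mul_one]

end Groth.Agent.SymSq53

end
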