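import Groth.Agent.SymSq53.Rows
import Groth.Agent.S1582
import Groth.Agent.ASB64.GlobalConst
import Groth.Agent.ArS10.PullIdeal
import Groth.Agent.Amp73.Gen

/-!
# Pullback to the square is injective on invertible modules of the symmetric square
-/

set_option autoImplicit false
set_option backward.isDefEq.respectTransparency.types false
set_option linter.style.haveILetI false
set_option maxSynthPendingDepth 6

universe u

open CategoryTheory CategoryTheory.Limits AlgebraicGeometry TopologicalSpace Opposite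
open Groth.Agent.Var76.LineBundle
open scoped Groth.Agent.FGA29

noncomputable section

namespace Groth.Agent.SymSq53

/-- A frame of the structure module has an inverse. -/
theorem exists_inverse_of_isFrame {X : Scheme.{u}} {U : X.Opens} {e : Γ(Coh.structureModule X, U)}
    (he : IsFrame (Coh.structureModule X) U e) : ∃ b : Γ(X, U), b * (show Γ(X, U) from e) = 1 := by
  obtain ⟨b, hb⟩ := (he U le_rfl).2 (show Γ(Coh.structureModule X, U) from (1 : Γ(X, U)))
  refine ⟨b, ?_⟩
  have h1 : b * X.presheaf.map (homOfLE (le_refl U)).op (show Γ(X, U) from e) = 1 := hb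
  rw [show (homOfLE (le_refl U)).op = 𝟙 (op U) from rfl, X.presheaf.map_id] at h1
  exact h1

/-- A unit of the structure module is a frame. -/
theorem isFrame_of_inverse {X : Scheme.{u}} {U : X.Opens} {e : Γ(Coh.structureModule X, U)} {b : Γ(X, U)}
    (hb : b * (show Γ(X, U) from e) = 1) : IsFrame (Coh.structureModule X) U e := by
  intro V hV
  have h1 : X.presheaf.map (homOfLE hV).op b * X.presheaf.map (homOfLE hV).op (show Γ(X, U) from e) = 1 := by
    rw [← map_mul, hb, map_one]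
  refine ⟨fun a a' h => ?_, fun z => ⟨(show Γ(X, V) from z) * X.presheaf.map (homOfLE hV).op b, ?_⟩⟩
  · have h' : a * X.presheaf.map (homOfLE hV).op (show Γ(X, U) from e) =
        a' * X.presheaf.map (homOfLE hV).op (show Γ(X, U) from e) := h
    have h2 := congrArg (· * X.presheaf.map (homOfLE hV).op b) h'
    simp only [mul_assoc] at h2
    rwa [mul_comm (X.presheaf.map (homOfLE hV).op (show Γ(X, U) from e)), h1, mul_one, mul_one] at h2
  · show (show Γ(X, V) from z) * _ * X.presheaf.map (homOfLE hV).op (show Γ(X, U) from e) = (show Γ(X, V) from z)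
    rw [mul_assoc, h1, mul_one]

variable {X S Z : Scheme.{u}} {π : X ⟶ S} {ι : X ⟶ X} (hI : Invol π ι) (i : Z ⟶ X) (hi : i ≫ ι = i)

/-- The involution as an endomorphism of the direct image. -/
def Invol.flipEnd : OX π ⟶ OX π := hI.mean ≫ unit π - hI.odd ≫ hI.anti.ι

theorem Invol.flipEnd_app {U : S.Opens} (s : Γ(OX π, U)) : fn (hI.flipEnd.app U s) = hI.flip (fn s) := by
  show (π.app U).hom (hI.mean.app U s) - hI.half _ * (fn s - hI.flip (fn s)) = hI.flip (fn s)
  rw [hI.app_mean]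
  linear_combination (hI.flip (fn s)) * hI.two_mul_half (π ⁻¹ᵁ U)

include hI i hi in
/-- An invertible module trivial upstairs is trivial, when the only global functions are constants detected on
the fixed locus. -/
theorem nonempty_iso_of_pullback_trivial [Nonempty Z] [IsIntegral Z] (k : Type u) [Field k]
    (c₀ : k →+* Γ(X, ⊤)) (hc₀ : Function.Surjective c₀)
    {L : S.Modules} (hL : PicF.IsInvertible L)
    (θ : (Scheme.Modules.pullback π).obj L ≅ Coh.structureModule X) : Nonempty (L ≅ Coh.structureModule S) := by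
  let adj := Scheme.Modules.pullbackPushforwardAdjunction π
  let ψ : L ⟶ OX π := adj.unit.app L ≫ (Scheme.Modules.pushforward π).map θ.hom
  have hψ : ∀ (U : S.Opens) (e : Γ(L, U)), fn (ψ.app U e) = θ.hom.app (π ⁻¹ᵁ U) (Amp73.pullS π L U e) :=
    fun U e => rfl
  let χ := (adj.homEquiv L (Coh.structureModule X)).symm (ψ ≫ hI.flipEnd)
  have hχ : ∀ (U : S.Opens) (e : Γ(L, U)), hI.flip (fn (ψ.app U e)) = χ.app (π ⁻¹ᵁ U) (Amp73.pullS π L U e) := by
    intro U e
    have h1 : adj.unit.app L ≫ (Scheme.Modules.pushforward π).map χ = ψ ≫ hI.flipEnd :=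
      (adj.homEquiv_unit (f := χ)).symm.trans (Equiv.apply_symm_apply _ _)
    have h2 : fn ((adj.unit.app L ≫ (Scheme.Modules.pushforward π).map χ).app U e) =
        fn (hI.flipEnd.app U (ψ.app U e)) := by rw [h1]; rfl
    rw [hI.flipEnd_app] at h2
    exact h2.symm
  let c : Γ(X, ⊤) := (θ.inv ≫ χ).app ⊤ (show Γ(Coh.structureModule X, ⊤) from (1 : Γ(X, ⊤)))
  have hmul : ∀ (V : X.Opens) (x : Γ(Coh.structureModule X, V)),
      (θ.inv ≫ χ).app V x = (show Γ(Coh.structureModule X, V) from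
        (show Γ(X, V) from x) * X.presheaf.map (homOfLE (le_top : V ≤ ⊤)).op c) := by
    intro V x
    have hx : x = (show Γ(X, V) from x) • res (Coh.structureModule X) (le_top : V ≤ ⊤)
        (show Γ(Coh.structureModule X, ⊤) from (1 : Γ(X, ⊤))) := by
      show x = (show Γ(X, V) from x) * X.presheaf.map (homOfLE (le_top : V ≤ ⊤)).op 1
      rw [map_one, mul_one]
    conv_lhs => rw [hx]
    rw [Scheme.Modules.Hom.app_smul, Mero90.app_res]
    rfl
  have hflip : ∀ (U : S.Opens) (e : Γ(L, U)), hI.flip (fn (ψ.app U e)) =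
      fn (ψ.app U e) * X.presheaf.map (homOfLE (le_top : π ⁻¹ᵁ U ≤ ⊤)).op c := by
    intro U e
    rw [hχ, hψ]
    have h1 := hmul (π ⁻¹ᵁ U) (θ.hom.app (π ⁻¹ᵁ U) (Amp73.pullS π L U e))
    have h2 : (θ.inv ≫ χ).app (π ⁻¹ᵁ U) (θ.hom.app (π ⁻¹ᵁ U) (Amp73.pullS π L U e)) =
        (θ.hom ≫ θ.inv ≫ χ).app (π ⁻¹ᵁ U) (Amp73.pullS π L U e) := rfl
    rw [h2, Iso.hom_inv_id_assoc] at h1
    exact h1
  have hframe : ∀ (U : S.Opens) (e : Γ(L, U)), IsFrame L U e → ∃ b, b * fn (ψ.app U e) = 1 := fun U e he =>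
    exists_inverse_of_isFrame ((Amp73.isFrame_app_iff θ.hom _).2 (Amp73.isFrame_pullS π hL he))
  -- the constant is one
  obtain ⟨lam, hlam⟩ := hc₀ c
  have hc1 : c = 1 := by
    let z : Z := Classical.arbitrary Z
    obtain ⟨U, hyU, e, he⟩ := Mero90.exists_frame' hL (π (i z))
    obtain ⟨b, hb⟩ := hframe U e he
    have hz : Nonempty (i ⁻¹ᵁ (π ⁻¹ᵁ U)) := ⟨⟨z, hyU⟩⟩
    let W := i ⁻¹ᵁ (π ⁻¹ᵁ U)
    let r : Γ(X, π ⁻¹ᵁ U) →+* Γ(Z, W) := (i.app (π ⁻¹ᵁ U)).hom
    have h1 : r (hI.flip (fn (ψ.app U e))) = r (fn (ψ.app U e)) := by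
      have key : ∀ (f : Z ⟶ X) (_ : f = i) (h : W ≤ f ⁻¹ᵁ (π ⁻¹ᵁ U)) (t : Γ(X, π ⁻¹ᵁ U)),
          f.appLE (π ⁻¹ᵁ U) W h t = i.app (π ⁻¹ᵁ U) t := fun f hf h t => by
        subst hf
        rw [Scheme.Hom.app_eq_appLE]
      show i.app (π ⁻¹ᵁ U) _ = i.app (π ⁻¹ᵁ U) _
      rw [Scheme.Hom.app_eq_appLE]
      show (ι.appLE (π ⁻¹ᵁ U) (π ⁻¹ᵁ U) _ ≫ i.appLE (π ⁻¹ᵁ U) W _) _ = _
      rw [Scheme.Hom.appLE_comp_appLE, ← Scheme.Hom.app_eq_appLE]
      exact key _ hi _ _
    rw [hflip, map_mul] at h1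
    have hu : IsUnit (r (fn (ψ.app U e))) := (IsUnit.of_mul_eq_one_right b hb).map r
    have h2 : r (X.presheaf.map (homOfLE (le_top : π ⁻¹ᵁ U ≤ ⊤)).op c) = 1 :=
      hu.mul_left_cancel (h1.trans (mul_one _).symm)
    have h3 : (r.comp ((X.presheaf.map (homOfLE (le_top : π ⁻¹ᵁ U ≤ ⊤)).op).hom.comp c₀)) lam =
        (r.comp ((X.presheaf.map (homOfLE (le_top : π ⁻¹ᵁ U ≤ ⊤)).op).hom.comp c₀)) 1 := by
      rw [map_one, RingHom.comp_apply, RingHom.comp_apply, hlam]
      exact h2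
    rw [← hlam, RingHom.injective _ h3, map_one]
  let a : L ⟶ Coh.structureModule S := ψ ≫ hI.mean
  have : IsIso a := by
    refine Amp73.isIso_of_frames a fun y => ?_
    obtain ⟨U, hyU, e, he⟩ := Mero90.exists_frame' hL y
    obtain ⟨b, hb⟩ := hframe U e he
    have hfix : hI.flip (fn (ψ.app U e)) = fn (ψ.app U e) := by rw [hflip, hc1, map_one, mul_one]
    have hbfix : hI.flip b = b := by
      have h1 := congrArg hI.flip hb
      rw [map_mul, hfix, map_one] at h1
      exact (IsUnit.of_mul_eq_one_right b hb).mul_right_cancel (h1.trans hb.symm)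
    obtain ⟨t, ht⟩ := hI.range U b hbfix
    refine ⟨U, e, hyU, he, isFrame_of_inverse (b := t) (hI.inj U ?_)⟩
    rw [map_mul, map_one, ht]
    show b * (π.app U).hom (hI.mean.app U (ψ.app U e)) = 1
    rw [hI.app_mean, hfix]
    linear_combination (b * fn (ψ.app U e)) * hI.two_mul_half (π ⁻¹ᵁ U) + hb
  exact ⟨asIso a⟩

end Groth.Agent.SymSq53

end
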