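import Groth.Agent.SymSq53.Rows
import Groth.Agent.ArS10.PullIdeal

/-!
# The class of twice a Weierstrass point
-/

set_option autoImplicit false
set_option backward.isDefEq.respectTransparency.types false
set_option linter.style.haveILetI false
set_option maxSynthPendingDepth 6

universe u

open CategoryTheory CategoryTheory.Limits AlgebraicGeometry TopologicalSpace Opposite FunFld
open scoped Groth.Agent.FGA29

noncomputable section

namespace Groth.Agent.SymSq53

variable {k : Type u} [Field k] {C : Scheme.{u}} [C.Over (Spec (CommRingCat.of k))]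
  [IsProper (C ↘ Spec (CommRingCat.of k))] [IsIntegral C]
  {x : Spec (CommRingCat.of k) ⟶ C} (hx : x ≫ (C ↘ Spec (CommRingCat.of k)) = 𝟙 (Spec (CommRingCat.of k)))
  (hdim : topologicalKrullDim C = 1)

include hdim in
/-- The graph of a map fixing `x` cuts `{x} × C` in `x`. -/
theorem cl_fibre_graph (τ : C ⟶ C) (hτp : τ ≫ (C ↘ Spec (CommRingCat.of k)) = C ↘ Spec (CommRingCat.of k))
    (hτ : x ≫ τ = x) {A : C.Modules} (hAinv : ClSub.IsInverseOf A (ClSub.idealMod x.ker))
    {B : (pullback (C ↘ Spec (CommRingCat.of k)) (C ↘ Spec (CommRingCat.of k))).Modules}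
    (hB : PicF.IsInvertible B) (hBinv : ClSub.IsInverseOf B (ClSub.idealMod (HypSq53.graph τ hτp).ker)) :
    PicF.cl ((Scheme.Modules.pullback (HypSq53.fibre hx)).obj B) = PicF.cl A := by
  let p := C ↘ Spec (CommRingCat.of k)
  have := HypSq53.isClosedImmersion_graph τ hτp
  have : IsClosedImmersion x := isClosedImmersion_of_comp_eq_id _ _ hx
  have hx0 : IsClosed ({x (IsLocalRing.closedPoint k)} : Set C) := (Crv77.section_point k x hx).1
  have hI : PicF.IsInvertible (ClSub.idealMod (HypSq53.graph τ hτp).ker) := by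
    obtain ⟨e⟩ := hBinv
    exact Inv57.isInvertible_of_tensorMod_iso (EGA73.tensComm _ B ≪≫ e)
  have hgen : (HypSq53.fibre hx).base (genericPoint C) ∉ ((HypSq53.graph τ hτp).ker.support : Set _) := by
    rw [Scheme.Hom.support_ker, (HypSq53.graph τ hτp).isClosedEmbedding.isClosed_range.closure_eq]
    rintro ⟨c, hc⟩
    have h1 := congrArg (pullback.fst p p) hc
    have h2 := congrArg (pullback.snd p p) hc
    rw [← Scheme.Hom.comp_apply, ← Scheme.Hom.comp_apply, pullback.lift_fst, pullback.lift_fst, Scheme.Hom.comp_apply,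
      Subsingleton.elim (p (genericPoint C)) (IsLocalRing.closedPoint k)] at h1
    rw [← Scheme.Hom.comp_apply, ← Scheme.Hom.comp_apply, pullback.lift_snd, pullback.lift_snd] at h2
    have h3 : c = x (IsLocalRing.closedPoint k) := h1
    have h4 : τ c = genericPoint C := h2
    rw [h3, ← Scheme.Hom.comp_apply, hτ] at h4
    exact Cyc90.not_isClosed_generic hdim (h4 ▸ hx0)
  have hpb : IsPullback x x (HypSq53.fibre hx) (HypSq53.graph τ hτp) := by
    have hw : x ≫ HypSq53.fibre hx = x ≫ HypSq53.graph τ hτp := by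
      refine pullback.hom_ext ?_ ?_
      · rw [Category.assoc, Category.assoc, pullback.lift_fst, pullback.lift_fst, ← Category.assoc, hx,
          Category.id_comp, Category.comp_id]
      · rw [Category.assoc, Category.assoc, pullback.lift_snd, pullback.lift_snd, hτ, Category.comp_id]
    refine IsPullback.of_isLimit' ⟨hw⟩ (PullbackCone.IsLimit.mk _ (fun s => s.fst ≫ p) (fun s => ?_) (fun s => ?_)
      (fun s m hm _ => ?_))
    · have h1 := congrArg (· ≫ pullback.fst p p) s.condition
      have h2 := congrArg (· ≫ pullback.snd p p) s.condition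
      rw [Category.assoc, Category.assoc, pullback.lift_fst, pullback.lift_fst, Category.comp_id] at h1
      rw [Category.assoc, Category.assoc, pullback.lift_snd, pullback.lift_snd, Category.comp_id] at h2
      calc (s.fst ≫ p) ≫ x = (s.fst ≫ p ≫ x) ≫ τ := by simp only [Category.assoc, hτ]
        _ = s.fst := by rw [h1, ← h2]
    · have h1 := congrArg (· ≫ pullback.fst p p) s.condition
      rw [Category.assoc, Category.assoc, pullback.lift_fst, pullback.lift_fst, Category.comp_id] at h1
      rw [Category.assoc]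
      exact h1
    · rw [← hm, Category.assoc, hx, Category.comp_id]
  obtain ⟨e⟩ := ArS10.nonempty_pullback_idealMod (HypSq53.fibre hx) (HypSq53.graph τ hτp).ker hgen
    ((Curves2.isInvertible_idealMod_iff _).1 hI)
  have h1 := (HypSq53.cl_pullback_tensor (HypSq53.fibre hx) hB hI).symm.trans
    ((HypSq53.cl_pullback_congr _ ((FGA29.cl_tensor _ _).trans ((HypSq53.cl_inverse hBinv).trans FGA29.cl_one.symm))).trans
      (HypSq53.cl_pullback_one _))
  rw [HypSq53.cl_eq_of_iso e, ← HypSq53.ker_eq_comap_of_isPullback hpb] at h1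
  calc PicF.cl ((Scheme.Modules.pullback (HypSq53.fibre hx)).obj B)
      = PicF.cl ((Scheme.Modules.pullback (HypSq53.fibre hx)).obj B) * (PicF.cl (ClSub.idealMod x.ker) * PicF.cl A) := by
        rw [mul_comm (PicF.cl (ClSub.idealMod x.ker)), HypSq53.cl_inverse hAinv, mul_one]
    _ = PicF.cl A := by rw [← mul_assoc, h1, one_mul]

attribute [local instance] CrvPic30.ffAlg

variable [IsAlgClosed k] [Smooth (C ↘ Spec (CommRingCat.of k))] {h : CrvPic30.Setup k C} {κ : C ⟶ CohB1.ProjSpace 1 k}
  {g : ℕ} {D : Divisor k C.functionField} {σ : C ⟶ C}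
  {N ND : (pullback (C ↘ Spec (CommRingCat.of k)) (C ↘ Spec (CommRingCat.of k))).Modules}

include hdim hx in
/-- `2x ∼ D` at a Weierstrass point. -/
theorem cl_sq_weierstrass (H : Hyper h κ g D σ N ND)
    (hσp : σ ≫ (C ↘ Spec (CommRingCat.of k)) = C ↘ Spec (CommRingCat.of k))
    (hN : PicF.IsInvertible N) (hNinv : ClSub.IsInverseOf N (ClSub.idealMod (HypSq53.graph σ hσp).ker))
    (hxW : x ≫ σ = x) {A : C.Modules} (hAinv : ClSub.IsInverseOf A (ClSub.idealMod x.ker)) :
    PicF.cl A * PicF.cl A = PicF.cl (HypSq53.Lh κ) := by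
  have hL := HypSq53.isInvertible_Lh κ
  have h1 := (HypSq53.cl_pullback_tensor (HypSq53.fibre hx) H.invND hN).symm.trans
    (HypSq53.cl_pullback_congr _ ((FGA29.cl_tensor _ _).trans H.sum))
  rw [cl_fibre_graph hx hdim (𝟙 C) (Category.id_comp _) (Category.comp_id x) hAinv H.invND H.ndInv,
    cl_fibre_graph hx hdim σ hσp hxW hAinv hN hNinv, HypSq53.boxMod,
    HypSq53.cl_pullback_tensor _ (Amp73.isInvertible_pullback _ hL) (Amp73.isInvertible_pullback _ hL),
    HypSq53.cl_fibre_fst hx hL, HypSq53.cl_fibre_snd, one_mul] at h1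
  exact h1

end Groth.Agent.SymSq53

end
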