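import Groth.Agent.DiffOpCalc.Coordinates
import Groth.Agent.Om3.ExtPowAlg
import Mathlib.RingTheory.Etale.Descent
import Mathlib.RingTheory.Etale.Kaehler
import Mathlib.RingTheory.AdjoinRoot

/-!
# Coordinates on a symmetric square: algebra
-/

set_option autoImplicit false
set_option linter.style.haveILetI false

universe u

open MvPolynomial TensorProduct KaehlerDifferential

noncomputable section

namespace Groth.Agent.SymSq53

variable {k : Type u} [Field k]

/-- Coordinates with a basis of differentials give an etale map from a polynomial ring. -/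
theorem etale_aeval {R : Type u} [CommRing R] [Algebra k R] [Algebra.Smooth k R] {n : ℕ} (z : Fin n → R)
    (hb : ∃ b : Module.Basis (Fin n) R (Ω[R⁄k]), ∀ i, b i = D k R (z i)) :
    (aeval (R := k) z).toRingHom.Etale := by
  obtain ⟨b, hb⟩ := hb
  letI : Algebra (MvPolynomial (Fin n) k) R := (aeval (R := k) z).toRingHom.toAlgebra
  haveI : IsScalarTower k (MvPolynomial (Fin n) k) R :=
    IsScalarTower.of_algebraMap_eq fun a => ((aeval (R := k) z).commutes a).symm
  haveI := DiffOpCalc.formallyEtale_of_coordinates (z := z) (fun i => aeval_X z i) b hb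
  haveI : Algebra.FinitePresentation (MvPolynomial (Fin n) k) R :=
    Algebra.FinitePresentation.of_restrict_scalars_finitePresentation k (MvPolynomial (Fin n) k) R
  exact { }

/-- An etale map from a polynomial ring gives a basis of differentials. -/
theorem exists_basis_of_etale {A : Type u} [CommRing A] [Algebra k A] {n : ℕ} (z : Fin n → A)
    (h : (aeval (R := k) z).toRingHom.Etale) :
    ∃ b : Module.Basis (Fin n) A (Ω[A⁄k]), ∀ i, b i = D k A (z i) := by
  letI : Algebra (MvPolynomial (Fin n) k) A := (aeval (R := k) z).toRingHom.toAlgebra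
  haveI : IsScalarTower k (MvPolynomial (Fin n) k) A :=
    IsScalarTower.of_algebraMap_eq fun a => ((aeval (R := k) z).commutes a).symm
  haveI : Algebra.Etale (MvPolynomial (Fin n) k) A := h
  refine ⟨((mvPolynomialBasis k (Fin n)).baseChange A).map
    (tensorKaehlerEquivOfFormallyEtale k (MvPolynomial (Fin n) k) A), fun i => ?_⟩
  rw [Module.Basis.map_apply, Module.Basis.baseChange_apply, tensorKaehlerEquivOfFormallyEtale_apply,
    mapBaseChange_tmul, one_smul, mvPolynomialBasis_apply, KaehlerDifferential.map_D]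
  exact congrArg _ (aeval_X z i)

/-- Unique infinitesimal lifts of a map out of an algebra with one etale coordinate. -/
theorem existsUnique_lift {R : Type u} [CommRing R] [Algebra k R] {f : R}
    (h : (aeval (R := k) ![f]).toRingHom.Etale) {B : Type u} [CommRing B] [Algebra k B] (I : Ideal B)
    (hI : I ^ 2 = ⊥) (g : R →ₐ[k] B ⧸ I) (t : B) (ht : Ideal.Quotient.mk I t = g f) :
    ∃! l : R →ₐ[k] B, (Ideal.Quotient.mkₐ k I).comp l = g ∧ l f = t := by
  let P := MvPolynomial (Fin 1) k
  letI : Algebra P R := (aeval (R := k) ![f]).toRingHom.toAlgebra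
  haveI : IsScalarTower k P R := IsScalarTower.of_algebraMap_eq fun a => ((aeval (R := k) ![f]).commutes a).symm
  haveI : Algebra.Etale P R := h
  letI : Algebra P B := (aeval (R := k) ![t]).toRingHom.toAlgebra
  haveI : IsScalarTower k P B := IsScalarTower.of_algebraMap_eq fun a => ((aeval (R := k) ![t]).commutes a).symm
  have hX : algebraMap P R (X 0) = f := aeval_X ![f] 0
  have hXB : algebraMap P B (X 0) = t := aeval_X ![t] 0
  have hg : ∀ a, g (algebraMap P R a) = algebraMap P (B ⧸ I) a := by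
    have : g.comp (IsScalarTower.toAlgHom k P R) = (Ideal.Quotient.mkₐ k I).comp (IsScalarTower.toAlgHom k P B) :=
      MvPolynomial.algHom_ext fun i => by
        rw [Fin.eq_zero i]
        show g (algebraMap P R (X 0)) = Ideal.Quotient.mk I (algebraMap P B (X 0))
        rw [hX, hXB, ht]
    exact fun a => DFunLike.congr_fun this a
  let g' : R →ₐ[P] B ⧸ I := { g.toRingHom with commutes' := hg }
  obtain ⟨l, hl⟩ := (Algebra.FormallyEtale.comp_bijective (R := P) (A := R) I hI).2 g'
  refine ⟨l.restrictScalars k, ⟨AlgHom.ext fun r => DFunLike.congr_fun hl r, ?_⟩, ?_⟩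
  · show l f = t
    rw [← hX, l.commutes, hXB]
  · rintro l₂ ⟨hl₂, hl₂t⟩
    have hc : ∀ a, l₂ (algebraMap P R a) = algebraMap P B a := by
      have : l₂.comp (IsScalarTower.toAlgHom k P R) = IsScalarTower.toAlgHom k P B :=
        MvPolynomial.algHom_ext fun i => by
          rw [Fin.eq_zero i]
          show l₂ (algebraMap P R (X 0)) = algebraMap P B (X 0)
          rw [hX, hXB, hl₂t]
      exact fun a => DFunLike.congr_fun this a
    let l' : R →ₐ[P] B := { l₂.toRingHom with commutes' := hc }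
    have : l' = l := (Algebra.FormallyEtale.comp_bijective (R := P) (A := R) I hI).1
      (hl ▸ AlgHom.ext fun r => DFunLike.congr_fun hl₂ r)
    exact AlgHom.ext fun r => DFunLike.congr_fun this r

open Algebra.TensorProduct in
/-- The square of an algebra with an etale coordinate has two etale coordinates. -/
theorem etale_square {R : Type u} [CommRing R] [Algebra k R] [Algebra.FinitePresentation k R] {f : R}
    (h : (aeval (R := k) ![f]).toRingHom.Etale) :
    (aeval (R := k) (![f ⊗ₜ[k] 1, 1 ⊗ₜ[k] f] : Fin 2 → R ⊗[k] R)).toRingHom.Etale := by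
  let Q := MvPolynomial (Fin 2) k
  let E := R ⊗[k] R
  letI : Algebra Q E := (aeval (R := k) (![f ⊗ₜ[k] 1, 1 ⊗ₜ[k] f] : Fin 2 → E)).toRingHom.toAlgebra
  haveI : IsScalarTower k Q E := IsScalarTower.of_algebraMap_eq fun a =>
    ((aeval (R := k) (![f ⊗ₜ[k] 1, 1 ⊗ₜ[k] f] : Fin 2 → E)).commutes a).symm
  have h0 : algebraMap Q E (X 0) = f ⊗ₜ[k] 1 := aeval_X _ 0
  have h1 : algebraMap Q E (X 1) = 1 ⊗ₜ[k] f := aeval_X _ 1
  haveI : Algebra.FinitePresentation k E := Algebra.FinitePresentation.trans k R E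
  haveI : Algebra.FinitePresentation Q E :=
    Algebra.FinitePresentation.of_restrict_scalars_finitePresentation k Q E
  haveI : Algebra.FormallyEtale Q E := by
    rw [Algebra.FormallyEtale.iff_comp_bijective]
    intro B _ _ I hI
    letI : Algebra k B := ((algebraMap Q B).comp (algebraMap k Q)).toAlgebra
    haveI : IsScalarTower k Q B := IsScalarTower.of_algebraMap_eq fun a => rfl
    refine ⟨fun l₁ l₂ hl => ?_, fun g => ?_⟩
    · have key : ∀ (i : R →ₐ[k] E) (q : Q), i f = algebraMap Q E q →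
          (l₁.restrictScalars k).comp i = (l₂.restrictScalars k).comp i := fun i q hq =>
        (existsUnique_lift h I hI (((Ideal.Quotient.mkₐ k I).comp (l₂.restrictScalars k)).comp i)
          (algebraMap Q B q) (by simp [hq])).unique
            ⟨AlgHom.ext fun r => DFunLike.congr_fun hl (i r), by simp [hq]⟩ ⟨rfl, by simp [hq]⟩
      have : l₁.restrictScalars k = l₂.restrictScalars k :=
        Algebra.TensorProduct.ext (key includeLeft (X 0) h0.symm) (key includeRight (X 1) h1.symm)
      exact AlgHom.ext fun z => DFunLike.congr_fun this z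
    · let g₀ := g.restrictScalars k
      obtain ⟨a, ⟨ha, haf⟩, -⟩ := existsUnique_lift h I hI (g₀.comp includeLeft) (algebraMap Q B (X 0))
        (show algebraMap Q (B ⧸ I) (X 0) = g (f ⊗ₜ 1) by rw [← h0, g.commutes])
      obtain ⟨b, ⟨hb, hbf⟩, -⟩ := existsUnique_lift h I hI (g₀.comp includeRight) (algebraMap Q B (X 1))
        (show algebraMap Q (B ⧸ I) (X 1) = g (1 ⊗ₜ f) by rw [← h1, g.commutes])
      let L : E →ₐ[k] B := productMap a b
      have hc : ∀ q, L (algebraMap Q E q) = algebraMap Q B q := by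
        have : L.comp (IsScalarTower.toAlgHom k Q E) = IsScalarTower.toAlgHom k Q B :=
          MvPolynomial.algHom_ext fun i => by
            fin_cases i
            · show L (algebraMap Q E (X 0)) = algebraMap Q B (X 0)
              rw [h0, productMap_apply_tmul, map_one, mul_one, haf]
            · show L (algebraMap Q E (X 1)) = algebraMap Q B (X 1)
              rw [h1, productMap_apply_tmul, map_one, one_mul, hbf]
        exact fun q => DFunLike.congr_fun this q
      refine ⟨{ L.toRingHom with commutes' := hc }, AlgHom.ext fun z => ?_⟩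
      have : (Ideal.Quotient.mkₐ k I).comp L = g₀ := by
        refine Algebra.TensorProduct.ext ?_ ?_
        · refine AlgHom.ext fun r => ?_
          show Ideal.Quotient.mk I (productMap a b (r ⊗ₜ 1)) = g (r ⊗ₜ 1)
          rw [productMap_apply_tmul, map_one, mul_one]
          exact DFunLike.congr_fun ha r
        · refine AlgHom.ext fun r => ?_
          show Ideal.Quotient.mk I (productMap a b (1 ⊗ₜ r)) = g (1 ⊗ₜ r)
          rw [productMap_apply_tmul, map_one, one_mul]
          exact DFunLike.congr_fun hb r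
      exact DFunLike.congr_fun this z
  exact { }

section Descent

variable {B A : Type u} [CommRing B] [CommRing A] [Algebra k B] [Algebra k A] (φ : B →ₐ[k] A)

/-- Elementary symmetric functions are coordinates on the invariants. -/
theorem etale_of_split (h2 : (2 : k) ≠ 0) {s t : B} {f₁ f₂ : A} (hs : φ s = f₁ + f₂) (ht : φ t = f₁ * f₂)
    (hA : (aeval (R := k) ![f₁, f₂]).toRingHom.Etale)
    (hsurj : ∀ a, ∃ x y, φ x + φ y * (f₁ - f₂) = a)
    (hinj : ∀ x y, φ x + φ y * (f₁ - f₂) = 0 → x = 0 ∧ y = 0) :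
    (aeval (R := k) ![s, t]).toRingHom.Etale := by
  let P := MvPolynomial (Fin 2) k
  letI : Algebra P B := (aeval (R := k) ![s, t]).toRingHom.toAlgebra
  haveI : IsScalarTower k P B := IsScalarTower.of_algebraMap_eq fun a => ((aeval (R := k) ![s, t]).commutes a).symm
  let μ : Polynomial P := Polynomial.X ^ 2 - Polynomial.C ((X 0 : P) ^ 2 - 4 * X 1)
  have hμ : μ.Monic := Polynomial.monic_X_pow_sub_C _ two_ne_zero
  have hμ1 : μ.natDegree = 2 := Polynomial.natDegree_X_pow_sub_C
  let Q := AdjoinRoot μ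
  let Y : Q := AdjoinRoot.root μ
  haveI : Module.Free P Q := hμ.free_adjoinRoot
  haveI : Module.Finite P Q := hμ.finite_adjoinRoot
  haveI : Nontrivial Q := AdjoinRoot.nontrivial μ fun h => by rw [Polynomial.degree_eq_natDegree hμ.ne_zero, hμ1] at h; simp at h
  haveI : Module.FaithfullyFlat P Q := inferInstance
  letI : Algebra P A := (φ.comp (aeval (R := k) ![s, t])).toRingHom.toAlgebra
  haveI : IsScalarTower k P A := IsScalarTower.of_algebraMap_eq fun a =>
    ((φ.comp (aeval (R := k) ![s, t])).commutes a).symm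
  have hX0 : algebraMap P A (X 0) = f₁ + f₂ := by
    show φ (aeval ![s, t] (X 0)) = _
    rw [aeval_X]; exact hs
  have hX1 : algebraMap P A (X 1) = f₁ * f₂ := by
    show φ (aeval ![s, t] (X 1)) = _
    rw [aeval_X]; exact ht
  let ψ : Q →ₐ[P] A := AdjoinRoot.liftAlgHom μ (Algebra.ofId P A) (f₁ - f₂) (by
    simp only [μ, Polynomial.eval₂_sub, Polynomial.eval₂_X_pow, Polynomial.eval₂_C]
    show _ - algebraMap P A _ = 0
    rw [map_sub, map_pow, map_mul, map_ofNat, hX0, hX1]
    ring)
  let φP : B →ₐ[P] A := { φ.toRingHom with commutes' := fun r => rfl }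
  letI : Algebra Q A := ψ.toRingHom.toAlgebra
  haveI : IsScalarTower P Q A := IsScalarTower.of_algebraMap_eq fun r => (ψ.commutes r).symm
  let m : Q ⊗[P] B →ₐ[Q] A := Algebra.TensorProduct.lift (Algebra.ofId Q A) φP fun _ _ => Commute.all _ _
  have hY : ψ Y = f₁ - f₂ := AdjoinRoot.liftAlgHom_root _ _ _ _
  have hrep : ∀ q : Q, ∃ p₀ p₁ : P, p₀ • (1 : Q) + p₁ • Y = q := by
    intro q
    obtain ⟨F, rfl⟩ := AdjoinRoot.mk_surjective q
    let G := F %ₘ μ
    have hG : G.natDegree ≤ 1 := by
      have : G.natDegree < μ.natDegree := Polynomial.natDegree_modByMonic_lt F hμ (fun h => by simp [h] at hμ1)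
      omega
    refine ⟨G.coeff 0, G.coeff 1, ?_⟩
    have h1 : AdjoinRoot.mk μ F = AdjoinRoot.mk μ G :=
      AdjoinRoot.mk_eq_mk.2 ⟨F /ₘ μ, by
        rw [sub_eq_iff_eq_add', Polynomial.modByMonic_add_div F μ]⟩
    rw [h1]
    conv_rhs => rw [Polynomial.eq_X_add_C_of_natDegree_le_one hG]
    rw [map_add, map_mul, AdjoinRoot.mk_C, AdjoinRoot.mk_C, AdjoinRoot.mk_X, Algebra.smul_def, Algebra.smul_def,
      mul_one, AdjoinRoot.algebraMap_eq]
    exact add_comm (G := Q) _ _
  have hzrep : ∀ z : Q ⊗[P] B, ∃ x y, (1 : Q) ⊗ₜ[P] x + Y ⊗ₜ[P] y = z := by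
    intro z
    induction z using TensorProduct.induction_on with
    | zero => exact ⟨0, 0, by simp⟩
    | tmul q b =>
      obtain ⟨p₀, p₁, rfl⟩ := hrep q
      exact ⟨p₀ • b, p₁ • b, by rw [TensorProduct.add_tmul, TensorProduct.smul_tmul, TensorProduct.smul_tmul]⟩
    | add z w hz hw =>
      obtain ⟨x, y, rfl⟩ := hz
      obtain ⟨x', y', rfl⟩ := hw
      exact ⟨x + x', y + y', by rw [TensorProduct.tmul_add, TensorProduct.tmul_add]; abel⟩
  have hm : ∀ x y, m ((1 : Q) ⊗ₜ[P] x + Y ⊗ₜ[P] y) = φ x + φ y * (f₁ - f₂) := by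
    intro x y
    rw [map_add, Algebra.TensorProduct.lift_tmul, Algebra.TensorProduct.lift_tmul, map_one, one_mul]
    show φ x + ψ Y * φ y = _
    rw [hY, mul_comm]
  have hbij : Function.Bijective m := by
    refine ⟨(injective_iff_map_eq_zero m).2 fun z hz => ?_, fun a => ?_⟩
    · obtain ⟨x, y, rfl⟩ := hzrep z
      rw [hm] at hz
      obtain ⟨rfl, rfl⟩ := hinj x y hz
      simp
    · obtain ⟨x, y, hxy⟩ := hsurj a
      exact ⟨_, (hm x y).trans hxy⟩
  let half : k := (2 : k)⁻¹
  let ι₂ : MvPolynomial (Fin 2) k →ₐ[k] Q :=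
    aeval ![half • (algebraMap P Q (X 0) + Y), half • (algebraMap P Q (X 0) - Y)]
  have hi0 : ι₂ (X 0) = half • (algebraMap P Q (X 0) + Y) := aeval_X _ 0
  have hi1 : ι₂ (X 1) = half • (algebraMap P Q (X 0) - Y) := aeval_X _ 1
  have hh : ∀ {M : Type u} [AddCommGroup M] [Module k M] (a : M), half • (a + a) = a := fun a => by
    rw [← two_smul k a, smul_smul, inv_mul_cancel₀ h2, one_smul]
  have hι : ψ.toRingHom.comp ι₂.toRingHom = (aeval (R := k) ![f₁, f₂]).toRingHom := by
    have hψX : ψ.restrictScalars k (algebraMap P Q (X 0)) = f₁ + f₂ := (ψ.commutes _).trans hX0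
    have key : (ψ.restrictScalars k).comp ι₂ = aeval ![f₁, f₂] := by
      refine MvPolynomial.algHom_ext fun i => ?_
      fin_cases i
      · show ψ.restrictScalars k (ι₂ (X 0)) = aeval ![f₁, f₂] (X 0)
        rw [hi0, aeval_X, map_smul, map_add, hψX, show ψ.restrictScalars k Y = f₁ - f₂ from hY,
          show f₁ + f₂ + (f₁ - f₂) = f₁ + f₁ by ring]
        exact hh f₁
      · show ψ.restrictScalars k (ι₂ (X 1)) = aeval ![f₁, f₂] (X 1)
        rw [hi1, aeval_X, map_smul, map_sub, hψX, show ψ.restrictScalars k Y = f₁ - f₂ from hY,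
          show f₁ + f₂ - (f₁ - f₂) = f₂ + f₂ by ring]
        exact hh f₂
    exact congrArg AlgHom.toRingHom key
  have hιsurj : Function.Surjective ι₂ := by
    have h0 : algebraMap P Q (X 0) = ι₂ (X 0 + X 1) := by
      rw [map_add, hi0, hi1, ← smul_add, add_add_sub_cancel, hh]
    have hY' : Y = ι₂ (X 0 - X 1) := by
      rw [map_sub, hi0, hi1, ← smul_sub, add_sub_sub_cancel, hh]
    have h1 : algebraMap P Q (X 1) = ι₂ (X 0 * X 1) := by
      have e : Y ^ 2 - algebraMap P Q ((X 0 : P) ^ 2 - 4 * X 1) = 0 := by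
        have := AdjoinRoot.eval₂_root μ
        rwa [Polynomial.eval₂_sub, Polynomial.eval₂_X_pow, Polynomial.eval₂_C, ← AdjoinRoot.algebraMap_eq] at this
      rw [map_sub, map_pow, map_mul, map_ofNat] at e
      rw [map_mul, hi0, hi1, smul_mul_smul_comm, show (algebraMap P Q (X 0) + Y) * (algebraMap P Q (X 0) - Y) =
        (4 : k) • algebraMap P Q (X 1) by rw [Algebra.smul_def, map_ofNat]; linear_combination -e, smul_smul,
        show half * half * 4 = 1 by simp only [half]; field_simp; norm_num, one_smul]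
    let S := ι₂.range
    have hP : ∀ r : P, algebraMap P Q r ∈ S := by
      intro r
      induction r using MvPolynomial.induction_on with
      | C c =>
        refine ⟨C c, ?_⟩
        show ι₂ (C c) = algebraMap P Q (C c)
        rw [← MvPolynomial.algebraMap_eq, ι₂.commutes]
        exact IsScalarTower.algebraMap_apply k P Q c
      | add a b ha hb => rw [map_add]; exact S.add_mem ha hb
      | mul_X a i ha =>
        rw [map_mul]
        refine S.mul_mem ha ?_
        fin_cases i
        · exact ⟨_, h0.symm⟩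
        · exact ⟨_, h1.symm⟩
    intro q
    obtain ⟨p₀, p₁, rfl⟩ := hrep q
    rw [Algebra.smul_def, Algebra.smul_def, mul_one]
    exact S.add_mem (hP p₀) (S.mul_mem (hP p₁) ⟨_, hY'.symm⟩)
  have hιinj : Function.Injective ι₂ := by
    let M := MvPolynomial (Fin 2) k
    let back : Q →ₐ[k] M :=
      AdjoinRoot.liftAlgHom μ (aeval (R := k) ![(X 0 + X 1 : M), X 0 * X 1]) (X 0 - X 1) (by
        rw [Polynomial.eval₂_sub, Polynomial.eval₂_X_pow, Polynomial.eval₂_C, AlgHom.coe_toRingHom, map_sub, map_pow,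
          map_mul, map_ofNat, aeval_X, aeval_X]
        show (X 0 - X 1) ^ 2 - ((X 0 + X 1 : M) ^ 2 - 4 * (X 0 * X 1)) = 0
        ring)
    have hb0 : back (algebraMap P Q (X 0)) = X 0 + X 1 := by
      rw [AdjoinRoot.algebraMap_eq, AdjoinRoot.liftAlgHom_of, aeval_X]; rfl
    have hbY : back Y = X 0 - X 1 := AdjoinRoot.liftAlgHom_root _ _ _ _
    have hid : back.comp ι₂ = AlgHom.id k M := by
      refine MvPolynomial.algHom_ext fun i => ?_
      fin_cases i
      · show back (ι₂ (X 0)) = X 0
        rw [hi0, map_smul, map_add, hb0, hbY, add_add_sub_cancel]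
        exact hh (X 0 : M)
      · show back (ι₂ (X 1)) = X 1
        rw [hi1, map_smul, map_sub, hb0, hbY, add_sub_sub_cancel]
        exact hh (X 1 : M)
    exact Function.LeftInverse.injective (g := back) fun x => DFunLike.congr_fun hid x
  have hQA : ψ.toRingHom.Etale := by
    let E := RingEquiv.ofBijective ι₂.toRingHom ⟨hιinj, hιsurj⟩
    have : ψ.toRingHom = (aeval (R := k) ![f₁, f₂]).toRingHom.comp E.symm.toRingHom := by
      rw [← hι, RingHom.comp_assoc]
      refine RingHom.ext fun q => congrArg ψ ?_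
      exact (E.apply_symm_apply q).symm
    rw [this]
    exact RingHom.Etale.stableUnderComposition _ _ (RingHom.Etale.of_bijective E.symm.bijective) hA
  haveI : Algebra.Etale Q A := hQA
  haveI : Algebra.Etale Q (Q ⊗[P] B) := Algebra.Etale.of_equiv (AlgEquiv.ofBijective m hbij).symm
  show Algebra.Etale P B
  exact Algebra.Etale.of_etale_tensorProduct_of_faithfullyFlat (R := P) (S := B) Q

open exteriorPower

/-- Transition of the wedge of two pairs of symmetric functions. -/
theorem jacobian_eq {s t s' t' : B} {f₁ f₂ g₁ g₂ : A}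
    (hs : φ s = f₁ + f₂) (ht : φ t = f₁ * f₂) (hs' : φ s' = g₁ + g₂) (ht' : φ t' = g₁ * g₂)
    (hg : ∃ b : Module.Basis (Fin 2) A (Ω[A⁄k]), ∀ i, b i = D k A (![g₁, g₂] i))
    {u₁ u₂ : A} (h₁ : D k A f₁ = u₁ • D k A g₁) (h₂ : D k A f₂ = u₂ • D k A g₂) {J : B}
    (hJ : ιMulti B 2 ![D k B s, D k B t] = J • ιMulti B 2 ![D k B s', D k B t']) :
    φ J * (g₁ - g₂) = u₁ * u₂ * (f₁ - f₂) := by
  obtain ⟨b, hb⟩ := hg
  letI : Algebra B A := φ.toRingHom.toAlgebra
  haveI : IsScalarTower k B A := IsScalarTower.of_algebraMap_eq fun c => (φ.commutes c).symm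
  let l := KaehlerDifferential.map k k B A
  let dt := (alternatingMapLinearEquiv b.det)
  let Φ : ↥(⋀[B]^2 (Ω[B⁄k])) → A := fun x => dt (Om3.ExtPowAlg.extMap (S := A) l 2 x)
  have hΦ : ∀ (J : B) x, Φ (J • x) = φ J * Φ x := fun J x => by
    show dt (Om3.ExtPowAlg.extMap (S := A) l 2 (J • x)) = _
    rw [map_smul, ← algebraMap_smul A J, map_smul, smul_eq_mul]
    rfl
  have hev : ∀ a c : B, Φ (ιMulti B 2 ![D k B a, D k B c]) = b.det ![D k A (φ a), D k A (φ c)] := by
    intro a c
    show dt (Om3.ExtPowAlg.extMap (S := A) l 2 _) = _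
    rw [Om3.ExtPowAlg.extMap_ιMulti, alternatingMapLinearEquiv_apply_ιMulti]
    congr 1
    funext i
    fin_cases i <;> exact KaehlerDifferential.map_D k k B A _
  have hdet : ∀ x₀ x₁ y₀ y₁ : A, b.det ![x₀ • b 0 + x₁ • b 1, y₀ • b 0 + y₁ • b 1] = x₀ * y₁ - y₀ * x₁ := by
    intro x₀ x₁ y₀ y₁
    rw [Module.Basis.det_apply, Matrix.det_fin_two]
    simp [Module.Basis.toMatrix_apply]
  have hb0 : b 0 = D k A g₁ := hb 0
  have hb1 : b 1 = D k A g₂ := hb 1
  have e1 : b.det ![D k A (φ s), D k A (φ t)] = u₁ * u₂ * (f₁ - f₂) := by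
    have : ![D k A (φ s), D k A (φ t)] = ![u₁ • b 0 + u₂ • b 1, (f₂ * u₁) • b 0 + (f₁ * u₂) • b 1] := by
      rw [hs, ht, map_add, Derivation.leibniz, h₁, h₂, hb0, hb1, smul_smul, smul_smul, add_comm ((f₁ * u₂) • _)]
    rw [this, hdet]
    ring
  have e2 : b.det ![D k A (φ s'), D k A (φ t')] = g₁ - g₂ := by
    have : ![D k A (φ s'), D k A (φ t')] = ![(1 : A) • b 0 + (1 : A) • b 1, g₂ • b 0 + g₁ • b 1] := by
      rw [hs', ht', map_add, Derivation.leibniz, hb0, hb1, one_smul, one_smul, add_comm (g₁ • _)]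
    rw [this, hdet]
    ring
  rw [← e1, ← hev, hJ, hΦ, hev, e2]

end Descent

end Groth.Agent.SymSq53
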