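import Groth.Agent.Var76.OmegaUniv
import Groth.Agent.Var76.OmegaSmooth
import Groth.Agent.Om3.ExtPowFrames
import Groth.Agent.Props58.LocFree.Affine
import Groth.Agent.HypSq53.Box
import Groth.Agent.Amp73.Gen
import Mathlib.Algebra.Module.Submodule.Union

/-!
# Differentials on affine opens, wedge frames, generic choices
-/

set_option autoImplicit false
set_option backward.isDefEq.respectTransparency.types false
set_option linter.style.haveILetI false
set_option maxSynthPendingDepth 6

universe u

open CategoryTheory CategoryTheory.Limits AlgebraicGeometry TopologicalSpace Opposite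
open exteriorPower

noncomputable section

namespace Groth.Agent.SymSq53

open Var76.LineBundle Amp73

variable {k : Type u} [Field k] {X : Scheme.{u}} (p : X ⟶ Spec (CommRingCat.of k))

/-- Kaehler differentials of an affine open are the sections of the differentials. -/
theorem exists_omega_equiv [QuasiSeparated p] {U : X.Opens} (hU : IsAffineOpen U) [Algebra k Γ(X, U)]
    (halg : ∀ r, algebraMap k Γ(X, U) r = HypSq53.cst p U r) :
    ∃ e : Ω[Γ(X, U)⁄k] ≃ₗ[Γ(X, U)] Γ(Omega.sheaf p, U),
      ∀ a, e (KaehlerDifferential.D k Γ(X, U) a) = OmegaSh.dSect p U a := by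
  letI : Module k Γ(Omega.sheaf p, U) := Module.compHom _ (algebraMap k Γ(X, U))
  haveI : IsScalarTower k Γ(X, U) Γ(Omega.sheaf p, U) := IsScalarTower.of_algebraMap_smul fun _ _ => rfl
  have hc : ∀ c, (OmegaSh.dOmega p).app U (p.appLE ⊤ U le_top c) = 0 := fun c =>
    Var76.OmegaUniv.Der.appLE (OmegaSh.dOmega p) le_top c
  let d₀ : Γ(X, U) →ₗ[k] Γ(Omega.sheaf p, U) :=
    { toFun := fun a => (OmegaSh.dOmega p).app U a
      map_add' := fun a b => map_add _ a b
      map_smul' := fun r a => by
        show (OmegaSh.dOmega p).app U (r • a) = algebraMap k Γ(X, U) r • (OmegaSh.dOmega p).app U a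
        rw [Algebra.smul_def, Var76.OmegaUniv.Der.map_mul, halg, HypSq53.cst, CommRingCat.comp_apply, hc, smul_zero,
          add_zero] }
  let d : Derivation k Γ(X, U) Γ(Omega.sheaf p, U) :=
    Derivation.mk' d₀ fun a b => Var76.OmegaUniv.Der.map_mul (OmegaSh.dOmega p) U a b
  let l := d.liftKaehlerDifferential
  haveI := Omega57.isIso_toSect p hU (isAffineOpen_top _) (le_top : U ≤ p ⁻¹ᵁ ⊤)
  let N : ModuleCat.{u} Γ(X, U) := ModuleCat.of _ (Ω[Γ(X, U)⁄k])
  let δ : N.Derivation (p.appLE ⊤ U le_top) :=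
    ModuleCat.Derivation.mk (fun b => KaehlerDifferential.D k Γ(X, U) b) (fun a b => map_add _ a b)
      (fun a b => (KaehlerDifferential.D k Γ(X, U)).leibniz a b) (fun c => by
        obtain ⟨r, rfl⟩ := (ConcreteCategory.bijective_of_isIso (Scheme.ΓSpecIso (CommRingCat.of k)).inv).2 c
        refine (congrArg (KaehlerDifferential.D k Γ(X, U)) (?_ : _ = algebraMap k Γ(X, U) r)).trans
          ((KaehlerDifferential.D k Γ(X, U)).map_algebraMap r)
        rw [halg]
        rfl)
  let g := inv (OmAff.toSect p ⊤ U le_top) ≫ δ.desc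
  have hg : ∀ a, g (OmegaSh.dSect p U a) = KaehlerDifferential.D k Γ(X, U) a := fun a => by
    show δ.desc (inv (OmAff.toSect p ⊤ U le_top) (OmegaSh.dSect p U a)) = _
    rw [← OmAff.toSect_d p ⊤ U le_top a, ← ConcreteCategory.comp_apply (OmAff.toSect p ⊤ U le_top),
      IsIso.hom_inv_id]
    exact δ.desc_d a
  have hl : ∀ a, l (KaehlerDifferential.D k Γ(X, U) a) = OmegaSh.dSect p U a := fun a =>
    d.liftKaehlerDifferential_comp_D a
  refine ⟨LinearEquiv.ofBijective l (Function.bijective_iff_has_inverse.2 ⟨g, ?_, ?_⟩), hl⟩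
  · intro x
    have hx : x ∈ Submodule.span Γ(X, U) (Set.range (KaehlerDifferential.D k Γ(X, U))) := by
      rw [KaehlerDifferential.span_range_derivation]; trivial
    induction hx using Submodule.span_induction with
    | mem y hy => obtain ⟨a, rfl⟩ := hy; rw [hl, hg]
    | zero => rw [map_zero]; exact map_zero g.hom
    | add y z _ _ hy hz => rw [map_add]; exact (map_add g.hom _ _).trans (congrArg₂ (· + ·) hy hz)
    | smul a y _ hy => rw [map_smul]; exact (map_smul g.hom _ _).trans (congrArg (a • ·) hy)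
  · intro x
    induction x using Var76.OmegaUniv.sect_induction (f := p) hU (isAffineOpen_top _) (le_top : U ≤ p ⁻¹ᵁ ⊤) with
    | hd a => rw [hg, hl]
    | h0 => exact (congrArg l (map_zero g.hom)).trans (map_zero l)
    | hadd y z hy hz => exact ((congrArg l (map_add g.hom y z)).trans (map_add l _ _)).trans (congrArg₂ (· + ·) hy hz)
    | hsmul a y hy => exact ((congrArg l (map_smul g.hom a y)).trans (map_smul l _ _)).trans (congrArg (a • ·) hy)

/-- Good sections: their differential is a frame near a point. -/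
def DGood [QuasiSeparated p] (a : X.Opens) (x : X) (f : Γ(X, a)) : Prop :=
  ∃ (V : X.Opens) (hV : V ≤ a), x ∈ V ∧
    IsFrame (Omega.sheaf p) V (OmegaSh.dSect p V (X.presheaf.map (homOfLE hV).op f))

/-- Almost all functions have a differential which is a frame near a given point. -/
theorem exists_bad_d [QuasiSeparated p] (hΩ : PicF.IsInvertible (Omega.sheaf p)) {a : X.Opens}
    (ha : IsAffineOpen a) {x : X} (hx : x ∈ a) :
    ∃ bad : AddSubgroup Γ(X, a), bad ≠ ⊤ ∧ ∀ f ∉ bad, DGood p a x f := by
  obtain ⟨W, hxW, hWa, w₀, hw₀⟩ := Mero90.exists_affine_frame hΩ x a hx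
  obtain ⟨h, hhW, hxh⟩ := ha.exists_basicOpen_le (V := W.1) ⟨x, hxW⟩ hx
  let V := X.basicOpen h
  have hVa : V ≤ a := X.basicOpen_le h
  let w := res (Omega.sheaf p) hhW w₀
  have hw : IsFrame _ V w := hw₀.res hhW
  have hwb : Function.Bijective fun c : Γ(X, V) => c • w := by
    have := hw V le_rfl; simpa only [res_self] using this
  choose c hc using fun f : Γ(X, a) => hwb.2 (OmegaSh.dSect p V (X.presheaf.map (homOfLE hVa).op f))
  let cH : Γ(X, a) →+ Γ(X, V) := AddMonoidHom.mk' c fun f g => hwb.1 (by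
    dsimp only at hc ⊢
    rw [add_smul, hc, hc, hc, map_add]
    exact map_add ((OmegaSh.dOmega p).app V) _ _)
  let P : Ideal Γ(X, V) := (IsLocalRing.maximalIdeal (X.presheaf.stalk x)).comap (X.presheaf.germ V x hxh).hom
  have hP : P ≠ ⊤ := Ideal.comap_ne_top _ (IsLocalRing.maximalIdeal.isMaximal _).ne_top
  refine ⟨P.toAddSubgroup.comap cH, fun htop => ?_, fun f hf => ?_⟩
  · have hne : ∀ f, c f ∈ P := fun f => htop.ge (AddSubgroup.mem_top f)
    have key : ∀ z : Γ(Omega.sheaf p, V), ∃ e ∈ P, e • w = z := by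
      intro z
      induction z using Var76.OmegaUniv.sect_induction (f := p) (ha.basicOpen h) (isAffineOpen_top _)
          (le_top : V ≤ p ⁻¹ᵁ ⊤) with
      | hd b =>
        letI : Algebra Γ(X, a) Γ(X, V) := (X.presheaf.map (homOfLE hVa).op).hom.toAlgebra
        haveI : IsLocalization.Away h Γ(X, V) := ha.isLocalization_basicOpen h
        obtain ⟨n, f, hf⟩ := IsLocalization.Away.surj h b
        have hb : b * X.presheaf.map (homOfLE hVa).op (h ^ n) = X.presheaf.map (homOfLE hVa).op f := by
          rw [map_pow]; exact hf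
        have hu : IsUnit (X.presheaf.map (homOfLE hVa).op (h ^ n)) := by
          rw [map_pow]; exact (RingedSpace.isUnit_res_basicOpen _ h).pow n
        obtain ⟨u, hu⟩ := hu
        refine ⟨(↑u⁻¹ : Γ(X, V)) * (c f - b * c (h ^ n)),
          P.mul_mem_left _ (P.sub_mem (hne f) (P.mul_mem_left _ (hne _))), ?_⟩
        have h1 := hc f
        dsimp only at h1
        rw [← hb, ← hu, OmegaSh.dSect_mul, hu] at h1
        have h2 := hc (h ^ n)
        dsimp only at h2
        rw [mul_smul, sub_smul, mul_smul, h1, h2, ← hu, add_sub_cancel_left, ← mul_smul, Units.inv_mul, one_smul]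
      | h0 => exact ⟨0, P.zero_mem, zero_smul _ w⟩
      | hadd y z hy hz =>
        obtain ⟨e, he, rfl⟩ := hy
        obtain ⟨e', he', rfl⟩ := hz
        exact ⟨e + e', P.add_mem he he', add_smul _ _ _⟩
      | hsmul r y hy =>
        obtain ⟨e, he, rfl⟩ := hy
        exact ⟨r * e, P.mul_mem_left _ he, mul_smul _ _ _⟩
    obtain ⟨e, he, he1⟩ := key w
    exact hP ((Ideal.eq_top_iff_one _).2 (hwb.1 (he1.trans (one_smul _ w).symm) ▸ he))
  have hxV' : x ∈ X.basicOpen (c f) := (X.mem_basicOpen (c f) x hxh).2 (not_not.1 fun hu => hf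
    (show _ ∈ IsLocalRing.maximalIdeal _ from (IsLocalRing.mem_maximalIdeal _).2 hu))
  have hV'V : X.basicOpen (c f) ≤ V := X.basicOpen_le (c f)
  refine ⟨_, hV'V.trans hVa, hxV', ?_⟩
  have he : OmegaSh.dSect p _ (X.presheaf.map (homOfLE (hV'V.trans hVa)).op f) =
      X.presheaf.map (homOfLE hV'V).op (c f) • res _ hV'V w := by
    rw [← res_smul]
    refine Eq.trans ?_ (congrArg (res (Omega.sheaf p) hV'V) (hc f).symm)
    refine Eq.trans ?_ (OmegaSh.dSect_map p hV'V _)
    rw [← CommRingCat.comp_apply, ← Functor.map_comp]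
    rfl
  rw [he, Amp73.isFrame_smul_iff (hw.res hV'V)]
  exact RingedSpace.isUnit_res_basicOpen _ (c f)

/-- Finitely many scale-invariant generic conditions hold simultaneously. -/
theorem exists_good {κ : Type u} [AddCommGroup κ] [Module k κ] [Infinite k] {n : ℕ} (Good : Fin n → κ → Prop)
    (hbad : ∀ i, ∃ bad : AddSubgroup κ, bad ≠ ⊤ ∧ ∀ f ∉ bad, Good i f)
    (hscale : ∀ i (c : k) f, c ≠ 0 → Good i (c • f) → Good i f) : ∃ f, ∀ i, Good i f := by
  choose bad hne hgood using hbad
  let P : Fin n → Submodule k κ := fun i =>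
    { carrier := {f | ∀ c : k, c • f ∈ bad i}
      add_mem' := fun hf hg c => by rw [smul_add]; exact (bad i).add_mem (hf c) (hg c)
      zero_mem' := fun c => by rw [smul_zero]; exact (bad i).zero_mem
      smul_mem' := fun d f hf c => by rw [smul_smul]; exact hf (c * d) }
  have hP : ∀ i, P i ≠ ⊤ := fun i h => hne i ((AddSubgroup.eq_top_iff' _).2 fun f => by
    have hf : f ∈ P i := h ▸ Submodule.mem_top
    simpa using hf 1)
  obtain ⟨f, hf⟩ := Submodule.exists_forall_notMem_of_forall_ne_top P hP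
  refine ⟨f, fun i => ?_⟩
  obtain ⟨c, hc⟩ := not_forall.1 (hf i)
  exact hscale i c f (fun h0 => hc (by rw [h0, zero_smul]; exact (bad i).zero_mem)) (hgood i _ hc)

section Wedge

variable {E W : X.Modules}

/-- The wedge of a basis is a frame of the exterior power. -/
theorem isFrame_wedge [E.IsQuasicoherent] [W.IsQuasicoherent]
    (φ : ∀ U : X.affineOpens, (W.val.obj (op U.1)) ≃ₗ[Γ(X, U.1)] ↥(⋀[Γ(X, U.1)]^2 (E.val.obj (op U.1))))
    (U : X.affineOpens) (b : Module.Basis (Fin 2) Γ(X, U.1) Γ(E, U.1)) :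
    IsFrame W U.1 ((φ U).symm (ιMulti _ 2 b)) := by
  let w : Γ(W, U.1) := (φ U).symm (ιMulti _ 2 b)
  have hb : Function.Bijective (LinearMap.toSpanSingleton Γ(X, U.1) Γ(W, U.1) w) := by
    refine (congrArg Function.Bijective (funext fun c => ?_)).mp
      ((φ U).symm.bijective.comp (Om3.DetSeq.bijective_smul_top b))
    exact map_smul (φ U).symm c _
  let bW : Module.Basis (Fin 1) Γ(X, U.1) Γ(W, U.1) :=
    (Module.Basis.singleton (Fin 1) Γ(X, U.1)).map (LinearEquiv.ofBijective _ hb)
  have hbW : ∀ i, bW i = w := fun i => by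
    rw [Module.Basis.map_apply, Module.Basis.singleton_apply]
    exact LinearMap.toSpanSingleton_apply_one _ _ w
  intro V hV
  have h1 := (Props58.LocFree.stalkBasis_of_basis U.2 bW).bijective hV
  refine (congrArg Function.Bijective (funext fun c => ?_)).mp
    (h1.comp (Equiv.funUnique (Fin 1) Γ(X, V)).symm.bijective)
  simp only [Function.comp_apply, Fin.sum_univ_one, hbW]
  rfl

end Wedge

end Groth.Agent.SymSq53

end
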