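import Groth.Agent.SymSq53.Chart

/-!
# The canonical module of the symmetric square upstairs
-/

set_option autoImplicit false
set_option backward.isDefEq.respectTransparency.types false
set_option linter.style.haveILetI false
set_option maxSynthPendingDepth 6

universe u

open CategoryTheory CategoryTheory.Limits AlgebraicGeometry TopologicalSpace Opposite

noncomputable section

namespace Groth.Agent.SymSq53

open Var76.LineBundle Amp73
open HypSq53 (box box_le_fst box_le_snd box_mono cst)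
open exteriorPower (ιMulti)

/-- Relations between differentials are functorial. -/
theorem D_map_smul {k R A : Type u} [Field k] [CommRing R] [CommRing A] [Algebra k R] [Algebra k A] (φ : R →ₐ[k] A)
    {f g c : R} (h : KaehlerDifferential.D k R f = c • KaehlerDifferential.D k R g) :
    KaehlerDifferential.D k A (φ f) = φ c • KaehlerDifferential.D k A (φ g) := by
  letI : Algebra R A := φ.toRingHom.toAlgebra
  haveI : IsScalarTower k R A := IsScalarTower.of_algebraMap_eq fun x => (φ.commutes x).symm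
  have h1 := congrArg (KaehlerDifferential.map k k R A) h
  rw [map_smul, KaehlerDifferential.map_D, KaehlerDifferential.map_D, ← algebraMap_smul A c] at h1
  exact h1

variable {k : Type u} [Field k] {C : Scheme.{u}} [C.Over (Spec (CommRingCat.of k))]
  [IsProper (C ↘ Spec (CommRingCat.of k))] {Sq : Scheme.{u}}
  {π : pullback (C ↘ Spec (CommRingCat.of k)) (C ↘ Spec (CommRingCat.of k)) ⟶ Sq}

theorem Chart.restrict_f₁ (c : Chart π) (V : Sq.Opens) (hV : IsAffineOpen V) (h : V ≤ c.U) :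
    (c.restrict V hV h).f₁ =
      (pullback (C ↘ Spec (CommRingCat.of k)) (C ↘ Spec (CommRingCat.of k))).presheaf.map
        (homOfLE (π.preimage_mono h)).op c.f₁ := by
  rw [Chart.f₁, Chart.f₁, ← CommRingCat.comp_apply, Scheme.Hom.appLE_map]

theorem Chart.restrict_f₂ (c : Chart π) (V : Sq.Opens) (hV : IsAffineOpen V) (h : V ≤ c.U) :
    (c.restrict V hV h).f₂ =
      (pullback (C ↘ Spec (CommRingCat.of k)) (C ↘ Spec (CommRingCat.of k))).presheaf.map
        (homOfLE (π.preimage_mono h)).op c.f₂ := by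
  rw [Chart.f₂, Chart.f₂, ← CommRingCat.comp_apply, Scheme.Hom.appLE_map]

/-- The frame of the expected canonical module on a chart. -/
def Chart.frame (c : Chart π) :
    Γ(CohB1.tensorMod (HypSq53.boxMod (C ↘ Spec (CommRingCat.of k)) (Omega.sheaf (C ↘ Spec (CommRingCat.of k)))
      (Omega.sheaf (C ↘ Spec (CommRingCat.of k))))
      (ClSub.idealMod (HypSq53.graph (𝟙 C) (Category.id_comp (C ↘ Spec (CommRingCat.of k)))).ker), π ⁻¹ᵁ c.U) :=
  tm _ _ (res _ c.le (HypSq53.boxS (C ↘ Spec (CommRingCat.of k)) _ _ (OmegaSh.dSect (C ↘ Spec (CommRingCat.of k)) c.a c.f)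
    (OmegaSh.dSect (C ↘ Spec (CommRingCat.of k)) c.a c.f))) c.e

variable [IsAlgClosed k] [IsIntegral C] [Smooth (C ↘ Spec (CommRingCat.of k))]
  {ρ : ULift.{u} (Equiv.Perm (Fin 2)) →* Aut (pullback (C ↘ Spec (CommRingCat.of k)) (C ↘ Spec (CommRingCat.of k)))}
  (hρ : (ρ (ULift.up (Equiv.swap 0 1))).hom = (pullbackSymmetry (C ↘ Spec (CommRingCat.of k)) (C ↘ Spec (CommRingCat.of k))).hom)
  (hπ : SGA1.IsQuot ρ π) (h2 : (2 : k) ≠ 0) {q : Sq ⟶ Spec (CommRingCat.of k)}
  (hq : π ≫ q = pullback.fst (C ↘ Spec (CommRingCat.of k)) (C ↘ Spec (CommRingCat.of k)) ≫ (C ↘ Spec (CommRingCat.of k)))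

include hρ hπ h2 hq in
/-- The change of symmetric functions against the change of coordinates. -/
theorem jacobian_local (c c' : Chart π) [QuasiSeparated q] (V : Sq.Opens) (hV : IsAffineOpen V) (h : V ≤ c.U) (h' : V ≤ c'.U)
    {s t : Γ(Sq, c.U)} (hs : π.app c.U s = c.f₁ + c.f₂) (ht : π.app c.U t = c.f₁ * c.f₂)
    {s' t' : Γ(Sq, c'.U)} (hs' : π.app c'.U s' = c'.f₁ + c'.f₂) (ht' : π.app c'.U t' = c'.f₁ * c'.f₂)
    {J : Γ(Sq, V)}
    (hJ : ιMulti Γ(Sq, V) 2 ![res (Omega.sheaf q) h (OmegaSh.dSect q c.U s), res (Omega.sheaf q) h (OmegaSh.dSect q c.U t)] =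
      J • ιMulti Γ(Sq, V) 2 ![res (Omega.sheaf q) h' (OmegaSh.dSect q c'.U s'), res (Omega.sheaf q) h' (OmegaSh.dSect q c'.U t')])
    {b : C.Opens} (hb : IsAffineOpen b) (hba : b ≤ c.a) (hba' : b ≤ c'.a)
    (hVb : π ⁻¹ᵁ V ≤ box (C ↘ Spec (CommRingCat.of k)) b b) {u : Γ(C, b)}
    (hu : OmegaSh.dSect (C ↘ Spec (CommRingCat.of k)) b (C.presheaf.map (homOfLE hba).op c.f) =
      u • OmegaSh.dSect (C ↘ Spec (CommRingCat.of k)) b (C.presheaf.map (homOfLE hba').op c'.f)) :
    π.app V J * ((c'.restrict V hV h').f₁ - (c'.restrict V hV h').f₂) =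
      (pullback.fst (C ↘ Spec (CommRingCat.of k)) (C ↘ Spec (CommRingCat.of k))).appLE b _ (hVb.trans (box_le_fst _ _ _)) u *
        (pullback.snd (C ↘ Spec (CommRingCat.of k)) (C ↘ Spec (CommRingCat.of k))).appLE b _ (hVb.trans (box_le_snd _ _ _)) u *
          ((c.restrict V hV h).f₁ - (c.restrict V hV h).f₂) := by
  let p := C ↘ Spec (CommRingCat.of k)
  haveI := hπ.affine
  letI : Algebra k Γ(Sq, V) := (cst q V).hom.toAlgebra
  letI : Algebra k Γ(pullback p p, π ⁻¹ᵁ V) := (cst (pullback.fst p p ≫ p) (π ⁻¹ᵁ V)).hom.toAlgebra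
  letI : Algebra k Γ(C, b) := (cst p b).hom.toAlgebra
  obtain ⟨eR, heR⟩ := exists_omega_equiv p hb (fun _ => rfl)
  have hD : KaehlerDifferential.D k Γ(C, b) (C.presheaf.map (homOfLE hba).op c.f) =
      u • KaehlerDifferential.D k Γ(C, b) (C.presheaf.map (homOfLE hba').op c'.f) := by
    refine eR.injective ?_
    rw [map_smul, heR, heR]
    exact hu
  let φ₁ : Γ(C, b) →ₐ[k] Γ(pullback p p, π ⁻¹ᵁ V) :=
    { ((pullback.fst p p).appLE b (π ⁻¹ᵁ V) (hVb.trans (box_le_fst _ _ _))).hom with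
      commutes' := fun r => HypSq53.appLE_cst _ _ _ _ _ r }
  let φ₂ : Γ(C, b) →ₐ[k] Γ(pullback p p, π ⁻¹ᵁ V) :=
    { ((pullback.snd p p).appLE b (π ⁻¹ᵁ V) (hVb.trans (box_le_snd _ _ _))).hom with
      commutes' := fun r => (HypSq53.appLE_cst _ _ _ _ _ r).trans
        (congrArg (fun g : pullback p p ⟶ Spec (CommRingCat.of k) => cst g (π ⁻¹ᵁ V) r) pullback.condition.symm) }
  have e₁ : ∀ (d : Chart π) (hd : V ≤ d.U) (hbd : b ≤ d.a),
      φ₁ (C.presheaf.map (homOfLE hbd).op d.f) = (d.restrict V hV hd).f₁ := fun d hd hbd => by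
    show (pullback.fst p p).appLE b _ _ (C.presheaf.map (homOfLE hbd).op d.f) = _
    rw [← CommRingCat.comp_apply, Scheme.Hom.map_appLE]
    rfl
  have e₂ : ∀ (d : Chart π) (hd : V ≤ d.U) (hbd : b ≤ d.a),
      φ₂ (C.presheaf.map (homOfLE hbd).op d.f) = (d.restrict V hV hd).f₂ := fun d hd hbd => by
    show (pullback.snd p p).appLE b _ _ (C.presheaf.map (homOfLE hbd).op d.f) = _
    rw [← CommRingCat.comp_apply, Scheme.Hom.map_appLE]
    rfl
  have h₁ := D_map_smul φ₁ hD
  have h₂ := D_map_smul φ₂ hD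
  rw [e₁ c h hba, e₁ c' h' hba'] at h₁
  rw [e₂ c h hba, e₂ c' h' hba'] at h₂
  obtain ⟨e, he⟩ := exists_omega_equiv q hV (fun _ => rfl)
  have hres : ∀ (U : Sq.Opens) (hU : V ≤ U) (a : Γ(Sq, U)),
      e.symm (res (Omega.sheaf q) hU (OmegaSh.dSect q U a)) =
        KaehlerDifferential.D k Γ(Sq, V) (Sq.presheaf.map (homOfLE hU).op a) := fun U hU a => by
    rw [LinearEquiv.symm_apply_eq, he]
    exact (OmegaSh.dSect_map q hU a).symm
  have hJ' := congrArg (exteriorPower.map 2 e.symm.toLinearMap) hJ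
  rw [map_smul, exteriorPower.map_apply_ιMulti, exteriorPower.map_apply_ιMulti] at hJ'
  have hv : ∀ (U : Sq.Opens) (hU : V ≤ U) (a a' : Γ(Sq, U)),
      (⇑e.symm.toLinearMap ∘ ![res (Omega.sheaf q) hU (OmegaSh.dSect q U a), res (Omega.sheaf q) hU (OmegaSh.dSect q U a')]) =
        ![KaehlerDifferential.D k Γ(Sq, V) (Sq.presheaf.map (homOfLE hU).op a),
          KaehlerDifferential.D k Γ(Sq, V) (Sq.presheaf.map (homOfLE hU).op a')] := fun U hU a a' => funext fun i => by
    fin_cases i <;> exact hres U hU _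
  rw [hv, hv] at hJ'
  have hpull : ∀ (d : Chart π) (hd : V ≤ d.U) (a : Γ(Sq, d.U)),
      π.app V (Sq.presheaf.map (homOfLE hd).op a) =
        (pullback p p).presheaf.map (homOfLE (π.preimage_mono hd)).op (π.app d.U a) := fun d hd a => by
    rw [← CommRingCat.comp_apply, π.naturality, CommRingCat.comp_apply]
    rfl
  refine jacobian_eq (pullAlg hq V (fun _ => rfl) (fun _ => rfl)) ?_ ?_ ?_ ?_
    (exists_basis_of_etale _ ((c'.restrict V hV h').etale (fun _ => rfl))) h₁ h₂ hJ'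
  · show π.app V _ = _
    rw [hpull c h, hs, map_add, c.restrict_f₁, c.restrict_f₂]
  · show π.app V _ = _
    rw [hpull c h, ht, map_mul, c.restrict_f₁, c.restrict_f₂]
  · show π.app V _ = _
    rw [hpull c' h', hs', map_add, c'.restrict_f₁, c'.restrict_f₂]
  · show π.app V _ = _
    rw [hpull c' h', ht', map_mul, c'.restrict_f₁, c'.restrict_f₂]

include hρ hπ h2 hq in
/-- The canonical module pulls back to the forms vanishing on the diagonal. -/
theorem nonempty_pullback_canonical (hdim : topologicalKrullDim C = 1)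
    (hΩ : PicF.IsInvertible (Omega.sheaf (C ↘ Spec (CommRingCat.of k))))
    (hD : PicF.IsInvertible (ClSub.idealMod (HypSq53.graph (𝟙 C) (Category.id_comp (C ↘ Spec (CommRingCat.of k)))).ker))
    {W : Sq.Modules} (hW : ExtPow.IsExtPow 2 (Omega.sheaf q) W) :
    PicF.IsInvertible W ∧ Nonempty ((Scheme.Modules.pullback π).obj W ≅
      CohB1.tensorMod (HypSq53.boxMod (C ↘ Spec (CommRingCat.of k)) (Omega.sheaf (C ↘ Spec (CommRingCat.of k)))
        (Omega.sheaf (C ↘ Spec (CommRingCat.of k))))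
        (ClSub.idealMod (HypSq53.graph (𝟙 C) (Category.id_comp (C ↘ Spec (CommRingCat.of k)))).ker)) := by
  let p := C ↘ Spec (CommRingCat.of k)
  haveI := isProper_q hπ hq
  haveI : QuasiSeparated q := inferInstance
  haveI : (Omega.sheaf q).IsQuasicoherent := Omega57.isQuasicoherent_omega q
  haveI : W.IsQuasicoherent := Om3.isQuasicoherent_of_isExtPow hW
  haveI : IsSeparated (terminal.from C) := by
    rw [← terminal.comp_from p]; infer_instance
  obtain ⟨φ, hφ⟩ := hW
  choose c hc using exists_chart hρ hπ h2 hdim hΩ hD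
  choose s t hs ht using fun y => (c y).exists_sym hρ hπ h2
  have hbasis : ∀ y, ∃ b : Module.Basis (Fin 2) Γ(Sq, (c y).U) Γ(Omega.sheaf q, (c y).U),
      ⇑b = ![OmegaSh.dSect q (c y).U (s y), OmegaSh.dSect q (c y).U (t y)] := fun y => by
    letI : Algebra k Γ(Sq, (c y).U) := (cst q (c y).U).hom.toAlgebra
    obtain ⟨b, hb⟩ := (c y).exists_basis hρ hπ h2 hq (fun _ => rfl) (s y) (t y) (hs y) (ht y)
    obtain ⟨e, he⟩ := exists_omega_equiv q (c y).affU (fun _ => rfl)
    refine ⟨b.map e, funext fun i => ?_⟩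
    rw [Module.Basis.map_apply, hb]
    fin_cases i <;> exact he _
  choose b hb using hbasis
  let w : ∀ y, Γ(W, (c y).U) := fun y => (φ ⟨_, (c y).affU⟩).symm (ιMulti _ 2 (b y))
  have hw : ∀ y, IsFrame W (c y).U (w y) := fun y => isFrame_wedge φ ⟨_, (c y).affU⟩ (b y)
  have hWinv : PicF.IsInvertible W :=
    Mero90.isInvertible_of_frames fun y => ⟨(c y).U, hc y, w y, hw y⟩
  refine ⟨hWinv, ?_⟩
  refine Curves2.Glue.nonempty_iso_of_frames (fun y : Sq => π ⁻¹ᵁ (c y).U) (fun x => ⟨π x, hc (π x)⟩)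
    (fun y => pullS π W (c y).U (w y)) (fun y => (c y).frame) (fun y => isFrame_pullS π hWinv (hw y))
    (fun y => isFrame_tm ((isFrame_tm ((isFrame_pullS _ hΩ (c y).dframe).res _)
      ((isFrame_pullS _ hΩ (c y).dframe).res _)).res (c y).le) (c y).eframe) ?_
  intro y z r hr
  obtain ⟨d, hd⟩ := (hw z ((c y).U ⊓ (c z).U) inf_le_right).2 (res W inf_le_left (w y))
  dsimp only at hd
  have hr' : r = π.app ((c y).U ⊓ (c z).U) d := by
    refine (isFrame_pullS π hWinv (hw z) (π ⁻¹ᵁ ((c y).U ⊓ (c z).U)) (π.preimage_mono inf_le_right)).1 (hr.trans ?_)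
    have h1 := congrArg (pullS π W ((c y).U ⊓ (c z).U)) hd
    rw [pullS_smul, ← res_pullS, ← res_pullS] at h1
    exact h1.symm
  subst hr'
  let b₀ : C.Opens := (c y).a ⊓ (c z).a
  have hb₀ : IsAffineOpen b₀ := (c y).affA.inf (c z).affA
  obtain ⟨u, hu⟩ := ((c z).dframe b₀ inf_le_right).2 (res _ (inf_le_left : b₀ ≤ (c y).a) (OmegaSh.dSect p (c y).a (c y).f))
  dsimp only at hu
  have hu' : OmegaSh.dSect p b₀ (C.presheaf.map (homOfLE (inf_le_left : b₀ ≤ (c y).a)).op (c y).f) =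
      u • OmegaSh.dSect p b₀ (C.presheaf.map (homOfLE (inf_le_right : b₀ ≤ (c z).a)).op (c z).f) :=
    ((OmegaSh.dSect_map p inf_le_left (c y).f).trans hu.symm).trans
      (congrArg (u • ·) (OmegaSh.dSect_map p inf_le_right (c z).f).symm)
  let O := (c y).U ⊓ (c z).U
  have hO : π ⁻¹ᵁ O ≤ box p b₀ b₀ := fun x hx =>
    ⟨⟨((c y).le hx.1).1, ((c z).le hx.2).1⟩, ⟨((c y).le hx.1).2, ((c z).le hx.2).2⟩⟩
  obtain ⟨v, hv⟩ := ((c z).eframe (π ⁻¹ᵁ O) (π.preimage_mono inf_le_right)).2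
    (res _ (π.preimage_mono inf_le_left) (c y).e)
  dsimp only at hv
  let U₁ := (pullback.fst p p).appLE b₀ (π ⁻¹ᵁ O) (hO.trans (box_le_fst _ _ _)) u
  let U₂ := (pullback.snd p p).appLE b₀ (π ⁻¹ᵁ O) (hO.trans (box_le_snd _ _ _)) u
  have hcoef : π.app O d = U₁ * U₂ * v := by
    refine ((c z).eframe (π ⁻¹ᵁ O) (π.preimage_mono inf_le_right)).1 ?_
    dsimp only
    rw [mul_smul (U₁ * U₂), hv]
    refine Omega57.idealSect_injective _ _ ?_
    rw [Omega57.idealSect_smul, Omega57.idealSect_smul, Curves2.idealSect_res, Curves2.idealSect_res,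
      (c z).idealSect_e, (c y).idealSect_e]
    refine TopCat.Sheaf.eq_of_locally_eq' (pullback p p).sheaf
      (fun V : {V : Sq.affineOpens // V.1 ≤ O} => π ⁻¹ᵁ V.1.1) (π ⁻¹ᵁ O)
      (fun V => homOfLE (π.preimage_mono V.2)) (fun x hx => ?_) _ _ fun V => ?_
    · obtain ⟨V, hV, hxV, hVO⟩ := exists_isAffineOpen_mem_and_subset (x := π x) (U := O) hx
      exact Opens.mem_iSup.2 ⟨⟨⟨V, hV⟩, hVO⟩, hxV⟩
    · obtain ⟨⟨V, hV⟩, hVO⟩ := V
      have hVy : V ≤ (c y).U := hVO.trans inf_le_left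
      have hVz : V ≤ (c z).U := hVO.trans inf_le_right
      have hJ : ιMulti Γ(Sq, V) 2 ![res (Omega.sheaf q) hVy (OmegaSh.dSect q _ (s y)),
          res (Omega.sheaf q) hVy (OmegaSh.dSect q _ (t y))] =
          Sq.presheaf.map (homOfLE hVO).op d • ιMulti Γ(Sq, V) 2 ![res (Omega.sheaf q) hVz (OmegaSh.dSect q _ (s z)),
            res (Omega.sheaf q) hVz (OmegaSh.dSect q _ (t z))] := by
        have hnat : ∀ (y : Sq) (hy : V ≤ (c y).U), φ ⟨V, hV⟩ (res W hy (w y)) =
            ιMulti Γ(Sq, V) 2 ![res (Omega.sheaf q) hy (OmegaSh.dSect q _ (s y)),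
              res (Omega.sheaf q) hy (OmegaSh.dSect q _ (t y))] := fun y hy => by
          refine (congrArg (φ ⟨V, hV⟩) (hφ ⟨_, (c y).affU⟩ ⟨V, hV⟩ hy (b y))).trans ?_
          rw [LinearEquiv.apply_symm_apply, hb]
          congr 1
          funext i
          fin_cases i <;> rfl
        have h1 := congrArg (res W hVO) hd
        rw [res_smul, res_res, res_res] at h1
        rw [← hnat y hVy, ← hnat z hVz, ← h1]
        exact (φ ⟨V, hV⟩).map_smul _ _
      have key := jacobian_local hρ hπ h2 hq (c y) (c z) V hV hVy hVz (hs y) (ht y) (hs z) (ht z) hJ hb₀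
        inf_le_left inf_le_right ((π.preimage_mono hVO).trans hO) hu'
      rw [Chart.restrict_f₁, Chart.restrict_f₂, Chart.restrict_f₁, Chart.restrict_f₂] at key
      show (pullback p p).presheaf.map (homOfLE (π.preimage_mono hVO)).op _ =
        (pullback p p).presheaf.map (homOfLE (π.preimage_mono hVO)).op _
      simp only [p, map_mul, map_sub, U₁, U₂, ← CommRingCat.comp_apply]
      simp only [← CommRingCat.comp_apply, Scheme.Hom.naturality] at key
      rw [Scheme.Hom.appLE_map, Scheme.Hom.appLE_map, ← Functor.map_comp, ← Functor.map_comp]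
      exact key
  rw [hcoef]
  have hy : res _ (π.preimage_mono inf_le_left : π ⁻¹ᵁ O ≤ π ⁻¹ᵁ (c y).U) (c y).frame =
      (U₁ * U₂ * v) • res _ (π.preimage_mono inf_le_right) (c z).frame := by
    have hbox : ∀ (d : Chart π) (hd : π ⁻¹ᵁ O ≤ π ⁻¹ᵁ d.U) (hbd : b₀ ≤ d.a),
        res _ hd (res _ d.le (HypSq53.boxS p (Omega.sheaf p) (Omega.sheaf p) (OmegaSh.dSect p d.a d.f)
          (OmegaSh.dSect p d.a d.f))) =
          res _ hO (HypSq53.boxS p (Omega.sheaf p) (Omega.sheaf p) (res _ hbd (OmegaSh.dSect p d.a d.f))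
            (res _ hbd (OmegaSh.dSect p d.a d.f))) := fun d hd hbd => by
      rw [← HypSq53.boxS_res, res_res, res_res]
    rw [Chart.frame, Chart.frame, res_tm, res_tm, hbox (c y) _ inf_le_left, hbox (c z) _ inf_le_right, ← hu,
      HypSq53.boxS_smul_left, HypSq53.boxS_smul_right, res_smul, res_smul, ← hv, tm_smul_left, tm_smul_left,
      tm_smul_right, smul_smul, smul_smul]
    congr 2
    simp only [U₁, U₂, ← CommRingCat.comp_apply]
    rw [Scheme.Hom.appLE_map, Scheme.Hom.appLE_map]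
  exact hy.symm

end Groth.Agent.SymSq53

end
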