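import Groth.Agent.SymSq53.Quot
import Groth.Agent.SymSq53.AlgSquare
import Groth.Agent.SymSq53.Bridge
import Mathlib.AlgebraicGeometry.Morphisms.Etale
import Mathlib.AlgebraicGeometry.Morphisms.Smooth
import Mathlib.FieldTheory.IsAlgClosed.Basic

/-!
# Coordinate charts of the symmetric square
-/

set_option autoImplicit false
set_option backward.isDefEq.respectTransparency.types false
set_option linter.style.haveILetI false
set_option maxSynthPendingDepth 6

universe u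

open CategoryTheory CategoryTheory.Limits AlgebraicGeometry TopologicalSpace Opposite
open scoped TensorProduct

noncomputable section

namespace Groth.Agent.SymSq53

open Var76.LineBundle Amp73
open HypSq53 (box box_le_fst box_le_snd box_mono cst)

variable {k : Type u} [Field k] {C : Scheme.{u}} [C.Over (Spec (CommRingCat.of k))]

theorem diff_res {a a' : C.Opens} (h : a' ≤ a) (f : Γ(C, a)) :
    diff (k := k) a' (C.presheaf.map (homOfLE h).op f) =
      (pullback (C ↘ Spec (CommRingCat.of k)) (C ↘ Spec (CommRingCat.of k))).presheaf.map (homOfLE (box_mono (C ↘ Spec (CommRingCat.of k)) h h)).op (diff a f) := by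
  simp only [diff, map_sub]
  congr 1 <;>
  · rw [← CommRingCat.comp_apply, ← CommRingCat.comp_apply, Scheme.Hom.map_appLE, Scheme.Hom.appLE_map]

theorem diff_cst_mul (a : C.Opens) (r : k) (f : Γ(C, a)) :
    diff (k := k) a (cst (C ↘ Spec (CommRingCat.of k)) a r * f) =
      cst (pullback.fst (C ↘ Spec (CommRingCat.of k)) (C ↘ Spec (CommRingCat.of k)) ≫ (C ↘ Spec (CommRingCat.of k))) (box (C ↘ Spec (CommRingCat.of k)) a a) r * diff a f := by
  have hsnd : cst (pullback.snd (C ↘ Spec (CommRingCat.of k)) (C ↘ Spec (CommRingCat.of k)) ≫ (C ↘ Spec (CommRingCat.of k))) (box (C ↘ Spec (CommRingCat.of k)) a a) r = cst (pullback.fst (C ↘ Spec (CommRingCat.of k)) (C ↘ Spec (CommRingCat.of k)) ≫ (C ↘ Spec (CommRingCat.of k))) (box (C ↘ Spec (CommRingCat.of k)) a a) r :=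
    congrArg (fun g : (pullback (C ↘ Spec (CommRingCat.of k)) (C ↘ Spec (CommRingCat.of k))) ⟶ Spec (CommRingCat.of k) => cst g (box (C ↘ Spec (CommRingCat.of k)) a a) r) pullback.condition.symm
  rw [diff, diff, map_mul, map_mul, HypSq53.appLE_cst, HypSq53.appLE_cst, hsnd, mul_sub]

/-- A chart of the symmetric square given by a function on the curve. -/
structure Chart [IsProper (C ↘ Spec (CommRingCat.of k))] {Sq : Scheme.{u}} (π : (pullback (C ↘ Spec (CommRingCat.of k)) (C ↘ Spec (CommRingCat.of k))) ⟶ Sq) where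
  /-- The open of the curve. -/
  a : C.Opens
  affA : IsAffineOpen a
  /-- The coordinate. -/
  f : Γ(C, a)
  dframe : IsFrame (Omega.sheaf (C ↘ Spec (CommRingCat.of k))) a (OmegaSh.dSect (C ↘ Spec (CommRingCat.of k)) a f)
  /-- The open of the symmetric square. -/
  U : Sq.Opens
  affU : IsAffineOpen U
  le : π ⁻¹ᵁ U ≤ box (C ↘ Spec (CommRingCat.of k)) a a
  /-- The equation of the diagonal. -/
  e : Γ(ClSub.idealMod (HypSq53.graph (𝟙 C) (Category.id_comp (C ↘ Spec (CommRingCat.of k)))).ker, π ⁻¹ᵁ U)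
  eframe : IsFrame (ClSub.idealMod (HypSq53.graph (𝟙 C) (Category.id_comp (C ↘ Spec (CommRingCat.of k)))).ker) (π ⁻¹ᵁ U) e
  he : OmegaSh.idealSect (HypSq53.graph (𝟙 C) (Category.id_comp (C ↘ Spec (CommRingCat.of k)))).ker (π ⁻¹ᵁ U) e =
    (pullback (C ↘ Spec (CommRingCat.of k)) (C ↘ Spec (CommRingCat.of k))).presheaf.map (homOfLE le).op (diff a f)

variable [IsProper (C ↘ Spec (CommRingCat.of k))] {Sq : Scheme.{u}} {π : (pullback (C ↘ Spec (CommRingCat.of k)) (C ↘ Spec (CommRingCat.of k))) ⟶ Sq}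

/-- Restriction of a chart. -/
abbrev Chart.restrict (c : Chart π) (V : Sq.Opens) (hV : IsAffineOpen V) (h : V ≤ c.U) : Chart π where
  a := c.a
  affA := c.affA
  f := c.f
  dframe := c.dframe
  U := V
  affU := hV
  le := (π.preimage_mono h).trans c.le
  e := res _ (π.preimage_mono h) c.e
  eframe := c.eframe.res _
  he := by
    rw [Curves2.idealSect_res, c.he, ← CommRingCat.comp_apply, ← Functor.map_comp]
    rfl

/-- The first coordinate. -/
def Chart.f₁ (c : Chart π) : Γ((pullback (C ↘ Spec (CommRingCat.of k)) (C ↘ Spec (CommRingCat.of k))), π ⁻¹ᵁ c.U) :=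
  (pullback.fst (C ↘ Spec (CommRingCat.of k)) (C ↘ Spec (CommRingCat.of k))).appLE c.a _ (c.le.trans (box_le_fst (C ↘ Spec (CommRingCat.of k)) _ _)) c.f

/-- The second coordinate. -/
def Chart.f₂ (c : Chart π) : Γ((pullback (C ↘ Spec (CommRingCat.of k)) (C ↘ Spec (CommRingCat.of k))), π ⁻¹ᵁ c.U) :=
  (pullback.snd (C ↘ Spec (CommRingCat.of k)) (C ↘ Spec (CommRingCat.of k))).appLE c.a _ (c.le.trans (box_le_snd (C ↘ Spec (CommRingCat.of k)) _ _)) c.f

theorem Chart.idealSect_e (c : Chart π) :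
    OmegaSh.idealSect (HypSq53.graph (𝟙 C) (Category.id_comp (C ↘ Spec (CommRingCat.of k)))).ker (π ⁻¹ᵁ c.U) c.e = c.f₁ - c.f₂ := by
  rw [c.he, diff, map_sub, Chart.f₁, Chart.f₂]
  congr 1 <;> rw [← CommRingCat.comp_apply, Scheme.Hom.appLE_map]

variable {ρ : ULift.{u} (Equiv.Perm (Fin 2)) →* Aut (pullback (C ↘ Spec (CommRingCat.of k)) (C ↘ Spec (CommRingCat.of k)))} (hρ : (ρ (ULift.up (Equiv.swap 0 1))).hom = (pullbackSymmetry (C ↘ Spec (CommRingCat.of k)) (C ↘ Spec (CommRingCat.of k))).hom)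
  (hπ : SGA1.IsQuot ρ π) (h2 : (2 : k) ≠ 0)

theorem Chart.flip_f₁ (c : Chart π) : (invol_of_quot hρ hπ h2).flip c.f₁ = c.f₂ := by
  show ((pullbackSymmetry (C ↘ Spec (CommRingCat.of k)) (C ↘ Spec (CommRingCat.of k))).hom.appLE (π ⁻¹ᵁ c.U) (π ⁻¹ᵁ c.U) _) ((pullback.fst (C ↘ Spec (CommRingCat.of k)) (C ↘ Spec (CommRingCat.of k))).appLE c.a _ _ c.f) = _
  rw [← CommRingCat.comp_apply, Scheme.Hom.appLE_comp_appLE, Chart.f₂]
  simp only [pullbackSymmetry_hom_comp_fst]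

include hρ hπ h2 in
theorem Chart.exists_sym (c : Chart π) :
    ∃ s t : Γ(Sq, c.U), π.app c.U s = c.f₁ + c.f₂ ∧ π.app c.U t = c.f₁ * c.f₂ := by
  let hI := invol_of_quot hρ hπ h2
  have h1 := c.flip_f₁ hρ hπ h2
  have h2' : hI.flip c.f₂ = c.f₁ := by rw [← h1, hI.flip_flip]
  obtain ⟨s, hs⟩ := hI.range c.U (c.f₁ + c.f₂) (by show hI.flip _ = _; rw [map_add, h1, h2', add_comm])
  obtain ⟨t, ht⟩ := hI.range c.U (c.f₁ * c.f₂) (by show hI.flip _ = _; rw [map_mul, h1, h2', mul_comm])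
  exact ⟨s, t, hs, ht⟩

include hρ hπ h2 in
/-- The functions upstairs are free over the functions downstairs on one and the equation. -/
theorem Chart.split (c : Chart π) :
    (∀ z, ∃ x y, π.app c.U x + π.app c.U y * (c.f₁ - c.f₂) = z) ∧
      ∀ x y, π.app c.U x + π.app c.U y * (c.f₁ - c.f₂) = 0 → x = 0 ∧ y = 0 := by
  let hI := invol_of_quot hρ hπ h2
  let i := HypSq53.graph (𝟙 C) (Category.id_comp (C ↘ Spec (CommRingCat.of k)))
  haveI : IsClosedImmersion i := HypSq53.isClosedImmersion_graph (𝟙 C) (Category.id_comp (C ↘ Spec (CommRingCat.of k)))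
  have hi : i ≫ (pullbackSymmetry (C ↘ Spec (CommRingCat.of k)) (C ↘ Spec (CommRingCat.of k))).hom = i :=
    pullback.hom_ext
      (by rw [Category.assoc, pullbackSymmetry_hom_comp_fst, pullback.lift_snd, pullback.lift_fst])
      (by rw [Category.assoc, pullbackSymmetry_hom_comp_snd, pullback.lift_snd, pullback.lift_fst])
  have hflip : hI.flip (c.f₁ - c.f₂) = -(c.f₁ - c.f₂) := by
    have h1 := c.flip_f₁ hρ hπ h2
    rw [map_sub, h1, show hI.flip c.f₂ = c.f₁ by rw [← h1, hI.flip_flip], neg_sub]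
  have hbij := c.eframe (π ⁻¹ᵁ c.U) le_rfl
  simp only [res_self] at hbij
  have hz : ∀ y : Γ((pullback (C ↘ Spec (CommRingCat.of k)) (C ↘ Spec (CommRingCat.of k))), π ⁻¹ᵁ c.U), y * (c.f₁ - c.f₂) = 0 → y = 0 := fun y hy => by
    refine hbij.1 (Omega57.idealSect_injective i.ker _ ?_)
    dsimp only
    rw [Omega57.idealSect_smul, Omega57.idealSect_smul, c.idealSect_e, hy, zero_mul]
  have h2u := hI.two_mul_half (π ⁻¹ᵁ c.U)
  refine ⟨fun z => ?_, fun x y hxy => ?_⟩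
  · obtain ⟨x, hx⟩ : ∃ x, π.app c.U x = hI.half _ * (z + hI.flip z) := ⟨_, hI.app_meanVal z⟩
    have hanti : hI.flip (hI.oddVal z) = -hI.oddVal z := by
      simp only [Invol.oddVal, map_mul, map_sub, hI.flip_flip, hI.half_map]
      ring
    obtain ⟨m, hm⟩ := exists_idealSect_of_app_eq_zero i (π ⁻¹ᵁ c.U) _ (app_anti_eq_zero hI i hi _ hanti)
    obtain ⟨y', hy'⟩ := hbij.2 m
    dsimp only at hy'
    have hy : y' * (c.f₁ - c.f₂) = hI.oddVal z := by
      rw [← c.idealSect_e, ← Omega57.idealSect_smul, hy', hm]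
    have hfix : hI.flip y' = y' := by
      refine sub_eq_zero.1 (hz _ ?_)
      have := congrArg hI.flip hy
      rw [map_mul, hflip, hanti, mul_neg, neg_inj] at this
      rw [sub_mul, this, hy, sub_self]
    obtain ⟨y, hy2⟩ := hI.range c.U y' hfix
    refine ⟨x, y, ?_⟩
    rw [hx, show π.app c.U y = y' from hy2, hy, Invol.oddVal]
    linear_combination z * h2u
  · have h1 := congrArg hI.flip hxy
    rw [map_add, map_mul, map_zero, hflip] at h1
    have hx' : hI.flip (π.app c.U x) = π.app c.U x := hI.flip_app x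
    have hy' : hI.flip (π.app c.U y) = π.app c.U y := hI.flip_app y
    rw [hx', hy'] at h1
    have hx0 : π.app c.U x = 0 := by
      linear_combination hI.half (π ⁻¹ᵁ c.U) * hxy + hI.half (π ⁻¹ᵁ c.U) * h1 - π.app c.U x * h2u
    rw [hx0, zero_add] at hxy
    refine ⟨hI.inj c.U (hx0.trans (map_zero _).symm), hI.inj c.U ((hz _ hxy).trans (map_zero _).symm)⟩

theorem isSmooth_sections [Smooth (C ↘ Spec (CommRingCat.of k))] {a : C.Opens} (ha : IsAffineOpen a) [Algebra k Γ(C, a)]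
    (halg : ∀ r, algebraMap k Γ(C, a) r = cst (C ↘ Spec (CommRingCat.of k)) a r) : Algebra.Smooth k Γ(C, a) := by
  have h1 : RingHom.Smooth ((C ↘ Spec (CommRingCat.of k)).appLE ⊤ a le_top).hom :=
    HasRingHomProperty.appLE @Smooth _ (inferInstance : Smooth (C ↘ Spec (CommRingCat.of k))) ⟨⊤, isAffineOpen_top _⟩ ⟨a, ha⟩ le_top
  have h2 := RingHom.Smooth.respectsIso.2 _ (Scheme.ΓSpecIso (CommRingCat.of k)).symm.commRingCatIsoToRingEquiv h1
  rw [← RingHom.smooth_algebraMap]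
  rw [show algebraMap k Γ(C, a) = (cst (C ↘ Spec (CommRingCat.of k)) a).hom from RingHom.ext halg]
  exact h2

/-- The sections of a square box are the square of the sections. -/
theorem exists_box_equiv {a : C.Opens} (ha : IsAffineOpen a) [Algebra k Γ(C, a)]
    (halg : ∀ r, algebraMap k Γ(C, a) r = cst (C ↘ Spec (CommRingCat.of k)) a r) :
    ∃ E : Γ(C, a) ⊗[k] Γ(C, a) →+* Γ((pullback (C ↘ Spec (CommRingCat.of k)) (C ↘ Spec (CommRingCat.of k))), box (C ↘ Spec (CommRingCat.of k)) a a), Function.Bijective E ∧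
      (∀ x, E (x ⊗ₜ 1) = (pullback.fst (C ↘ Spec (CommRingCat.of k)) (C ↘ Spec (CommRingCat.of k))).appLE a _ (box_le_fst (C ↘ Spec (CommRingCat.of k)) a a) x) ∧
      ∀ y, E (1 ⊗ₜ y) = (pullback.snd (C ↘ Spec (CommRingCat.of k)) (C ↘ Spec (CommRingCat.of k))).appLE a _ (box_le_snd (C ↘ Spec (CommRingCat.of k)) a a) y := by
  have : IsAffine (a : Scheme.{u}) := ha
  have : IsAffine ((⊤ : (Spec (CommRingCat.of k)).Opens) : Scheme.{u}) := isAffineOpen_top _
  have hpb := Scheme.Hom.isPullback_resLE (IsPullback.of_hasPullback (C ↘ Spec (CommRingCat.of k)) (C ↘ Spec (CommRingCat.of k))) (US := ⊤) (UX := a) (UT := a)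
    (le_top : a ≤ (C ↘ Spec (CommRingCat.of k)) ⁻¹ᵁ ⊤) (le_top : a ≤ (C ↘ Spec (CommRingCat.of k)) ⁻¹ᵁ ⊤) (UY := box (C ↘ Spec (CommRingCat.of k)) a a) rfl
  have hpo : IsPushout (CommRingCat.ofHom (algebraMap k Γ(C, a))) (CommRingCat.ofHom (algebraMap k Γ(C, a)))
      ((pullback.fst (C ↘ Spec (CommRingCat.of k)) (C ↘ Spec (CommRingCat.of k))).appLE a (box (C ↘ Spec (CommRingCat.of k)) a a) (box_le_fst (C ↘ Spec (CommRingCat.of k)) a a))
      ((pullback.snd (C ↘ Spec (CommRingCat.of k)) (C ↘ Spec (CommRingCat.of k))).appLE a (box (C ↘ Spec (CommRingCat.of k)) a a) (box_le_snd (C ↘ Spec (CommRingCat.of k)) a a)) := by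
    have hc : CommRingCat.ofHom (algebraMap k Γ(C, a)) = cst (C ↘ Spec (CommRingCat.of k)) a := CommRingCat.hom_ext (RingHom.ext halg)
    rw [hc]
    refine (isPushout_appTop_of_isPullback hpb).of_iso
      ((⊤ : (Spec (CommRingCat.of k)).Opens).topIso ≪≫ Scheme.ΓSpecIso _) a.topIso a.topIso (box (C ↘ Spec (CommRingCat.of k)) a a).topIso
        ?_ ?_ ?_ ?_ <;>
    · simp only [cst, Scheme.Hom.appTop, Scheme.Hom.resLE_app_top, Category.assoc, Iso.inv_hom_id,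
        Category.comp_id, Iso.trans_hom, Iso.hom_inv_id_assoc]
  have hpo' := CommRingCat.isPushout_tensorProduct k Γ(C, a) Γ(C, a)
  let E := (hpo.isoIsPushout _ _ hpo').commRingCatIsoToRingEquiv
  exact ⟨E.symm.toRingHom, E.symm.bijective,
    fun x => E.symm_apply_eq.2 (congr($(hpo.inl_isoIsPushout_hom _ _ hpo') x)).symm,
    fun y => E.symm_apply_eq.2 (congr($(hpo.inr_isoIsPushout_hom _ _ hpo') y)).symm⟩

theorem exists_basis_df {a : C.Opens} (ha : IsAffineOpen a) [Algebra k Γ(C, a)]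
    (halg : ∀ r, algebraMap k Γ(C, a) r = cst (C ↘ Spec (CommRingCat.of k)) a r) {f : Γ(C, a)}
    (hf : IsFrame (Omega.sheaf (C ↘ Spec (CommRingCat.of k))) a (OmegaSh.dSect (C ↘ Spec (CommRingCat.of k)) a f)) :
    ∃ b : Module.Basis (Fin 1) Γ(C, a) (Ω[Γ(C, a)⁄k]), ∀ i, b i = KaehlerDifferential.D k Γ(C, a) (![f] i) := by
  obtain ⟨e, he⟩ := exists_omega_equiv (C ↘ Spec (CommRingCat.of k)) ha halg
  have hb := hf a le_rfl
  simp only [res_self] at hb
  let l := (LinearEquiv.ofBijective (LinearMap.toSpanSingleton Γ(C, a) _ (OmegaSh.dSect (C ↘ Spec (CommRingCat.of k)) a f))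
    ((congrArg Function.Bijective (funext fun c => rfl)).mp hb)).trans e.symm
  refine ⟨(Module.Basis.singleton (Fin 1) Γ(C, a)).map l, fun i => ?_⟩
  rw [Module.Basis.map_apply, Module.Basis.singleton_apply, Fin.eq_zero i]
  show e.symm ((1 : Γ(C, a)) • OmegaSh.dSect (C ↘ Spec (CommRingCat.of k)) a f) = KaehlerDifferential.D k Γ(C, a) f
  rw [one_smul, LinearEquiv.symm_apply_eq, he]

/-- The two coordinates are etale coordinates upstairs. -/
theorem Chart.etale (c : Chart π) [Smooth (C ↘ Spec (CommRingCat.of k))] [IsAffineHom π] [Algebra k Γ((pullback (C ↘ Spec (CommRingCat.of k)) (C ↘ Spec (CommRingCat.of k))), π ⁻¹ᵁ c.U)]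
    (halg : ∀ r, algebraMap k Γ((pullback (C ↘ Spec (CommRingCat.of k)) (C ↘ Spec (CommRingCat.of k))), π ⁻¹ᵁ c.U) r = cst (pullback.fst (C ↘ Spec (CommRingCat.of k)) (C ↘ Spec (CommRingCat.of k)) ≫ (C ↘ Spec (CommRingCat.of k))) (π ⁻¹ᵁ c.U) r) :
    (MvPolynomial.aeval (R := k) ![c.f₁, c.f₂]).toRingHom.Etale := by
  letI : Algebra k Γ(C, c.a) := (cst (C ↘ Spec (CommRingCat.of k)) c.a).hom.toAlgebra
  haveI := isSmooth_sections (k := k) c.affA (fun _ => rfl)
  obtain ⟨E, hE, hE₁, hE₂⟩ := exists_box_equiv (k := k) c.affA (fun _ => rfl)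
  have h1 := etale_square (etale_aeval (k := k) ![c.f] (exists_basis_df c.affA (fun _ => rfl) c.dframe))
  let r := (pullback (C ↘ Spec (CommRingCat.of k)) (C ↘ Spec (CommRingCat.of k))).presheaf.map (homOfLE c.le).op
  have hr : r.hom.Etale := by
    have := HasRingHomProperty.appLE @Etale (𝟙 (pullback (C ↘ Spec (CommRingCat.of k)) (C ↘ Spec (CommRingCat.of k)))) inferInstance
      ⟨_, HypSq53.isAffineOpen_box (C ↘ Spec (CommRingCat.of k)) c.affA c.affA⟩ ⟨_, c.affU.preimage π⟩ c.le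
    exact this
  have key : (MvPolynomial.aeval (R := k) ![c.f₁, c.f₂]).toRingHom = r.hom.comp (E.comp
      (MvPolynomial.aeval (R := k) (![c.f ⊗ₜ[k] 1, 1 ⊗ₜ[k] c.f] : Fin 2 → Γ(C, c.a) ⊗[k] Γ(C, c.a))).toRingHom) := by
    refine MvPolynomial.ringHom_ext (fun s => ?_) fun i => ?_
    · simp only [RingHom.comp_apply, AlgHom.toRingHom_eq_coe, AlgHom.coe_toRingHom, MvPolynomial.aeval_C]
      rw [Algebra.TensorProduct.algebraMap_apply, hE₁, halg]
      show _ = r ((pullback.fst (C ↘ Spec (CommRingCat.of k)) (C ↘ Spec (CommRingCat.of k))).appLE c.a _ _ (cst (C ↘ Spec (CommRingCat.of k)) c.a s))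
      rw [HypSq53.appLE_cst]
      exact (HypSq53.cst_res _ c.le s).symm
    · simp only [RingHom.comp_apply, AlgHom.toRingHom_eq_coe, AlgHom.coe_toRingHom, MvPolynomial.aeval_X]
      fin_cases i
      · show c.f₁ = r (E (c.f ⊗ₜ 1))
        rw [hE₁, Chart.f₁, ← CommRingCat.comp_apply, Scheme.Hom.appLE_map]
      · show c.f₂ = r (E (1 ⊗ₜ c.f))
        rw [hE₂, Chart.f₂, ← CommRingCat.comp_apply, Scheme.Hom.appLE_map]
  rw [key]
  exact RingHom.Etale.stableUnderComposition _ _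
    (RingHom.Etale.stableUnderComposition _ _ h1 (RingHom.Etale.of_bijective hE)) hr

variable {q : Sq ⟶ Spec (CommRingCat.of k)} (hq : π ≫ q = pullback.fst (C ↘ Spec (CommRingCat.of k)) (C ↘ Spec (CommRingCat.of k)) ≫ (C ↘ Spec (CommRingCat.of k)))

/-- The quotient map on sections as a map of algebras. -/
def pullAlg (U : Sq.Opens) [Algebra k Γ(Sq, U)] [Algebra k Γ((pullback (C ↘ Spec (CommRingCat.of k)) (C ↘ Spec (CommRingCat.of k))), π ⁻¹ᵁ U)]
    (hB : ∀ r, algebraMap k Γ(Sq, U) r = cst q U r)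
    (hA : ∀ r, algebraMap k Γ((pullback (C ↘ Spec (CommRingCat.of k)) (C ↘ Spec (CommRingCat.of k))), π ⁻¹ᵁ U) r = cst (pullback.fst (C ↘ Spec (CommRingCat.of k)) (C ↘ Spec (CommRingCat.of k)) ≫ (C ↘ Spec (CommRingCat.of k))) (π ⁻¹ᵁ U) r) :
    Γ(Sq, U) →ₐ[k] Γ((pullback (C ↘ Spec (CommRingCat.of k)) (C ↘ Spec (CommRingCat.of k))), π ⁻¹ᵁ U) :=
  { (π.app U).hom with
    commutes' := fun r => by
      show π.app U (algebraMap k Γ(Sq, U) r) = _
      rw [hB, hA, Scheme.Hom.app_eq_appLE, HypSq53.appLE_cst, hq] }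

include hρ hπ h2 hq in
/-- The symmetric functions are coordinates downstairs. -/
theorem Chart.exists_basis (c : Chart π) [Smooth (C ↘ Spec (CommRingCat.of k))] [Algebra k Γ(Sq, c.U)]
    (hB : ∀ r, algebraMap k Γ(Sq, c.U) r = cst q c.U r) (s t : Γ(Sq, c.U))
    (hs : π.app c.U s = c.f₁ + c.f₂) (ht : π.app c.U t = c.f₁ * c.f₂) :
    ∃ b : Module.Basis (Fin 2) Γ(Sq, c.U) (Ω[Γ(Sq, c.U)⁄k]),
      ∀ i, b i = KaehlerDifferential.D k Γ(Sq, c.U) (![s, t] i) := by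
  letI : Algebra k Γ((pullback (C ↘ Spec (CommRingCat.of k)) (C ↘ Spec (CommRingCat.of k))), π ⁻¹ᵁ c.U) := (cst (pullback.fst (C ↘ Spec (CommRingCat.of k)) (C ↘ Spec (CommRingCat.of k)) ≫ (C ↘ Spec (CommRingCat.of k))) (π ⁻¹ᵁ c.U)).hom.toAlgebra
  haveI := hπ.affine
  obtain ⟨hsurj, hinj⟩ := c.split hρ hπ h2
  exact exists_basis_of_etale _
    (etale_of_split (pullAlg hq c.U hB (fun _ => rfl)) h2 hs ht (c.etale fun _ => rfl) hsurj hinj)

/-- The equation of the diagonal is a good function near a point. -/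
def EGood (a : C.Opens) (x : (pullback (C ↘ Spec (CommRingCat.of k)) (C ↘ Spec (CommRingCat.of k)) : Scheme.{u})) (f : Γ(C, a)) : Prop :=
  ∃ (V : Scheme.Opens (pullback (C ↘ Spec (CommRingCat.of k)) (C ↘ Spec (CommRingCat.of k)))) (hV : V ≤ box (C ↘ Spec (CommRingCat.of k)) a a)
    (m : Γ(ClSub.idealMod (HypSq53.graph (𝟙 C) (Category.id_comp (C ↘ Spec (CommRingCat.of k)))).ker, V)),
    x ∈ V ∧ IsFrame (ClSub.idealMod (HypSq53.graph (𝟙 C) (Category.id_comp (C ↘ Spec (CommRingCat.of k)))).ker) V m ∧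
      OmegaSh.idealSect (HypSq53.graph (𝟙 C) (Category.id_comp (C ↘ Spec (CommRingCat.of k)))).ker V m =
        (pullback (C ↘ Spec (CommRingCat.of k)) (C ↘ Spec (CommRingCat.of k))).presheaf.map (homOfLE hV).op (diff a f)

theorem isFrame_of_unit_smul {Y : Scheme.{u}} {L : Y.Modules} {U : Y.Opens} {e : Γ(L, U)} {c : Γ(Y, U)}
    (hc : IsUnit c) (h : IsFrame L U (c • e)) : IsFrame L U e := by
  obtain ⟨u, rfl⟩ := hc
  have h1 := (isFrame_smul_iff h (↑u⁻¹ : Γ(Y, U))).2 u⁻¹.isUnit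
  rwa [← mul_smul, Units.inv_mul, one_smul] at h1

theorem dGood_of_smul {a : C.Opens} {x : C} {r : k} (hr : r ≠ 0) {f : Γ(C, a)}
    (h : DGood (C ↘ Spec (CommRingCat.of k)) a x (cst (C ↘ Spec (CommRingCat.of k)) a r * f)) : DGood (C ↘ Spec (CommRingCat.of k)) a x f := by
  obtain ⟨V, hV, hx, hf⟩ := h
  refine ⟨V, hV, hx, isFrame_of_unit_smul ((isUnit_iff_ne_zero.2 hr).map (cst (C ↘ Spec (CommRingCat.of k)) V).hom) ?_⟩
  rw [map_mul, HypSq53.cst_res, OmegaSh.dSect_mul] at hf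
  have h0 : OmegaSh.dSect (C ↘ Spec (CommRingCat.of k)) V (cst (C ↘ Spec (CommRingCat.of k)) V r) = 0 :=
    Var76.OmegaUniv.Der.appLE (OmegaSh.dOmega (C ↘ Spec (CommRingCat.of k))) (V := ⊤) le_top ((Scheme.ΓSpecIso (CommRingCat.of k)).inv r)
  rw [h0, smul_zero] at hf
  simpa using hf

theorem eGood_of_smul {a : C.Opens} {x : (pullback (C ↘ Spec (CommRingCat.of k)) (C ↘ Spec (CommRingCat.of k)) : Scheme.{u})} {r : k} (hr : r ≠ 0) {f : Γ(C, a)}
    (h : EGood a x (cst (C ↘ Spec (CommRingCat.of k)) a r * f)) : EGood a x f := by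
  obtain ⟨V, hV, m, hx, hm, he⟩ := h
  let Q := pullback.fst (C ↘ Spec (CommRingCat.of k)) (C ↘ Spec (CommRingCat.of k)) ≫ (C ↘ Spec (CommRingCat.of k))
  refine ⟨V, hV, cst Q V r⁻¹ • m, hx, (isFrame_smul_iff hm _).2 ((isUnit_iff_ne_zero.2 (inv_ne_zero hr)).map
    (cst Q V).hom), ?_⟩
  rw [Omega57.idealSect_smul, he, diff_cst_mul, map_mul, HypSq53.cst_res, ← mul_assoc, ← map_mul,
    inv_mul_cancel₀ hr, map_one, one_mul]

variable [IsIntegral C] [IsAlgClosed k]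

include hρ hπ h2 in
theorem exists_chart (hdim : topologicalKrullDim C = 1) (hΩ : PicF.IsInvertible (Omega.sheaf (C ↘ Spec (CommRingCat.of k))))
    (hD : PicF.IsInvertible (ClSub.idealMod (HypSq53.graph (𝟙 C) (Category.id_comp (C ↘ Spec (CommRingCat.of k)))).ker)) (y : Sq) :
    ∃ c : Chart π, y ∈ c.U := by
  haveI := HypSq53.isClosedImmersion_graph (𝟙 C) (Category.id_comp (C ↘ Spec (CommRingCat.of k)))
  haveI := hπ.affine
  obtain ⟨x, rfl⟩ := Quot84.surjective hπ y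
  obtain ⟨a₀, ha₀, hx1, hx2⟩ := exists_affine_pair k hdim (pullback.fst (C ↘ Spec (CommRingCat.of k)) (C ↘ Spec (CommRingCat.of k)) x) (pullback.snd (C ↘ Spec (CommRingCat.of k)) (C ↘ Spec (CommRingCat.of k)) x)
  have hB := HypSq53.isAffineOpen_box (C ↘ Spec (CommRingCat.of k)) ha₀ ha₀
  letI : Algebra k Γ(C, a₀) := (cst (C ↘ Spec (CommRingCat.of k)) a₀).hom.toAlgebra
  have hx : x ∈ box (C ↘ Spec (CommRingCat.of k)) a₀ a₀ := ⟨hx1, hx2⟩
  let sw := (pullbackSymmetry (C ↘ Spec (CommRingCat.of k)) (C ↘ Spec (CommRingCat.of k))).hom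
  let e : Γ(C, a₀) →+ Γ((pullback (C ↘ Spec (CommRingCat.of k)) (C ↘ Spec (CommRingCat.of k))), box (C ↘ Spec (CommRingCat.of k)) a₀ a₀) :=
    AddMonoidHom.mk' (diff a₀) fun f g => by simp only [diff, map_add, add_sub_add_comm]
  let Good : Fin 4 → Γ(C, a₀) → Prop :=
    ![DGood (C ↘ Spec (CommRingCat.of k)) a₀ (pullback.fst (C ↘ Spec (CommRingCat.of k)) (C ↘ Spec (CommRingCat.of k)) x), DGood (C ↘ Spec (CommRingCat.of k)) a₀ (pullback.snd (C ↘ Spec (CommRingCat.of k)) (C ↘ Spec (CommRingCat.of k)) x), EGood a₀ x, EGood a₀ (sw x)]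
  have hE : ∀ z ∈ box (C ↘ Spec (CommRingCat.of k)) a₀ a₀, ∃ bad : AddSubgroup Γ(C, a₀), bad ≠ ⊤ ∧ ∀ f ∉ bad, EGood a₀ z f := fun z hz =>
    exists_frame_of_span hD ⟨_, hB⟩ e (diff_mem_diag a₀ hB) (ideal_diag_le a₀ ha₀ hB) hz
  obtain ⟨f₀, hf₀⟩ := exists_good (k := k) Good (fun i => by
    fin_cases i
    · exact exists_bad_d (C ↘ Spec (CommRingCat.of k)) hΩ ha₀ hx1
    · exact exists_bad_d (C ↘ Spec (CommRingCat.of k)) hΩ ha₀ hx2
    · exact hE x hx
    · exact hE (sw x) (box_le_swap a₀ hx)) (fun i r f hr hf => by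
    fin_cases i
    · exact dGood_of_smul hr hf
    · exact dGood_of_smul hr hf
    · exact eGood_of_smul hr hf
    · exact eGood_of_smul hr hf)
  obtain ⟨D₁, hD₁, hxD₁, hd₁⟩ := hf₀ 0
  obtain ⟨D₂, hD₂, hxD₂, hd₂⟩ := hf₀ 1
  obtain ⟨V₁, hV₁, m₁, hxV₁, hm₁, hme₁⟩ := hf₀ 2
  obtain ⟨V₂, hV₂, m₂, hxV₂, hm₂, hme₂⟩ := hf₀ 3
  obtain ⟨h₁, hh₁, hx₁⟩ := ha₀.exists_basicOpen_le (V := D₁) ⟨_, hxD₁⟩ hx1
  obtain ⟨h₂, hh₂, hx₂⟩ := ha₀.exists_basicOpen_le (V := D₂) ⟨_, hxD₂⟩ hx2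
  obtain ⟨h, hh, hy₁, hy₂⟩ : ∃ h : Γ(C, a₀), C.basicOpen h ≤ D₁ ⊔ D₂ ∧
      pullback.fst (C ↘ Spec (CommRingCat.of k)) (C ↘ Spec (CommRingCat.of k)) x ∈ C.basicOpen h ∧ pullback.snd (C ↘ Spec (CommRingCat.of k)) (C ↘ Spec (CommRingCat.of k)) x ∈ C.basicOpen h := by
    by_cases c₁ : pullback.snd (C ↘ Spec (CommRingCat.of k)) (C ↘ Spec (CommRingCat.of k)) x ∈ C.basicOpen h₁
    · exact ⟨h₁, hh₁.trans le_sup_left, hx₁, c₁⟩
    by_cases c₂ : pullback.fst (C ↘ Spec (CommRingCat.of k)) (C ↘ Spec (CommRingCat.of k)) x ∈ C.basicOpen h₂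
    · exact ⟨h₂, hh₂.trans le_sup_right, c₂, hx₂⟩
    refine ⟨h₁ + h₂, (Scheme.basicOpen_add_le C h₁ h₂).trans (sup_le_sup hh₁ hh₂), ?_, ?_⟩
    · rw [C.mem_basicOpen _ _ hx1] at hx₁ c₂ ⊢
      rw [map_add]
      by_contra hcon
      exact IsLocalRing.nonunits_add (b := -(C.presheaf.germ a₀ _ hx1 h₂)) hcon (fun hu => c₂ ((IsUnit.neg_iff _).1 hu))
        (by rwa [add_neg_cancel_right])
    · rw [C.mem_basicOpen _ _ hx2] at hx₂ c₁ ⊢
      rw [map_add]
      by_contra hcon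
      exact IsLocalRing.nonunits_add (b := -(C.presheaf.germ a₀ _ hx2 h₁)) hcon (fun hu => c₁ ((IsUnit.neg_iff _).1 hu))
        (by rwa [add_comm (C.presheaf.germ a₀ _ hx2 h₁), add_neg_cancel_right])
  let a := C.basicOpen h
  have haa : a ≤ a₀ := C.basicOpen_le h
  let f := C.presheaf.map (homOfLE haa).op f₀
  have hdf : IsFrame (Omega.sheaf (C ↘ Spec (CommRingCat.of k))) a (OmegaSh.dSect (C ↘ Spec (CommRingCat.of k)) a f) := Amp73.isFrame_of_locally _ fun z hz => by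
    have key : ∀ (D : C.Opens) (hD : D ≤ a₀),
        IsFrame (Omega.sheaf (C ↘ Spec (CommRingCat.of k))) D (OmegaSh.dSect (C ↘ Spec (CommRingCat.of k)) D (C.presheaf.map (homOfLE hD).op f₀)) → z ∈ D →
        ∃ (W : C.Opens) (hW : W ≤ a), z ∈ W ∧ IsFrame _ W (res _ hW (OmegaSh.dSect (C ↘ Spec (CommRingCat.of k)) a f)) := by
      intro D hD hfr hzD
      refine ⟨a ⊓ D, inf_le_left, ⟨hz, hzD⟩, ?_⟩
      have hr : res _ (inf_le_left : a ⊓ D ≤ a) (OmegaSh.dSect (C ↘ Spec (CommRingCat.of k)) a f) =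
          res _ (inf_le_right : a ⊓ D ≤ D) (OmegaSh.dSect (C ↘ Spec (CommRingCat.of k)) D (C.presheaf.map (homOfLE hD).op f₀)) := by
        refine ((OmegaSh.dSect_map (C ↘ Spec (CommRingCat.of k)) _ f).symm.trans ?_).trans (OmegaSh.dSect_map (C ↘ Spec (CommRingCat.of k)) _ _)
        congr 1
        rw [← CommRingCat.comp_apply, ← CommRingCat.comp_apply, ← Functor.map_comp, ← Functor.map_comp]
        rfl
      rw [hr]
      exact hfr.res _
    rcases (hh hz : z ∈ D₁ ⊔ D₂) with hz' | hz'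
    · exact key D₁ hD₁ hd₁ hz'
    · exact key D₂ hD₂ hd₂ hz'
  let W := (V₁ ⊔ V₂) ⊓ sw ⁻¹ᵁ (V₁ ⊔ V₂) ⊓ box (C ↘ Spec (CommRingCat.of k)) a a
  have hinv : ∀ z, sw (sw z) = z := fun z => by
    rw [← Scheme.Hom.comp_apply, (invol_of_quot hρ hπ h2).sq]
    rfl
  have hWs : W ≤ sw ⁻¹ᵁ W := fun z hz =>
    ⟨⟨hz.1.2, show sw (sw z) ∈ V₁ ⊔ V₂ from (hinv z).symm ▸ hz.1.1⟩, box_le_swap a hz.2⟩
  have hxW : x ∈ W := ⟨⟨Or.inl hxV₁, Or.inr hxV₂⟩, hy₁, hy₂⟩
  have hWB : W ≤ box (C ↘ Spec (CommRingCat.of k)) a a := inf_le_right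
  let g := (pullback (C ↘ Spec (CommRingCat.of k)) (C ↘ Spec (CommRingCat.of k))).presheaf.map (homOfLE hWB).op (diff a f)
  obtain ⟨m', hm'⟩ := exists_idealSect_of_app_eq_zero (HypSq53.graph (𝟙 C) (Category.id_comp (C ↘ Spec (CommRingCat.of k)))) W g (by
    have hBa := HypSq53.isAffineOpen_box (C ↘ Spec (CommRingCat.of k)) (ha₀.basicOpen h) (ha₀.basicOpen h)
    rw [← CommRingCat.comp_apply, (HypSq53.graph (𝟙 C) (Category.id_comp (C ↘ Spec (CommRingCat.of k)))).naturality, CommRingCat.comp_apply]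
    have h0 := diff_mem_diag a hBa f
    rw [Scheme.Hom.ker_apply, RingHom.mem_ker] at h0
    exact (congrArg _ h0).trans (map_zero _))
  have hframe : IsFrame _ W m' := Amp73.isFrame_of_locally _ fun z hz => by
    have key : ∀ (V' : Scheme.Opens (pullback (C ↘ Spec (CommRingCat.of k)) (C ↘ Spec (CommRingCat.of k)))) (hV' : V' ≤ box (C ↘ Spec (CommRingCat.of k)) a₀ a₀)
        (n : Γ(ClSub.idealMod (HypSq53.graph (𝟙 C) (Category.id_comp (C ↘ Spec (CommRingCat.of k)))).ker, V')),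
        IsFrame _ V' n → OmegaSh.idealSect _ V' n = (pullback (C ↘ Spec (CommRingCat.of k)) (C ↘ Spec (CommRingCat.of k))).presheaf.map (homOfLE hV').op (diff a₀ f₀) →
        IsFrame _ (W ⊓ V') (res _ inf_le_left m') := fun V' hV' n hn hne => by
      have hr : res _ (inf_le_left : W ⊓ V' ≤ W) m' = res _ (inf_le_right : W ⊓ V' ≤ V') n := by
        refine Omega57.idealSect_injective _ _ ?_
        rw [Curves2.idealSect_res, Curves2.idealSect_res, hm', hne]
        simp only [g, f, diff_res, ← CommRingCat.comp_apply, ← Functor.map_comp]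
        rfl
      rw [hr]
      exact hn.res _
    rcases (show z ∈ V₁ ⊔ V₂ from hz.1.1) with h | h
    · exact ⟨W ⊓ V₁, inf_le_left, ⟨hz, h⟩, key V₁ hV₁ m₁ hm₁ hme₁⟩
    · exact ⟨W ⊓ V₂, inf_le_left, ⟨hz, h⟩, key V₂ hV₂ m₂ hm₂ hme₂⟩
  let U₀ : Sq.Opens := ⟨π '' W, by
    rw [← (Quot84.isQuotientMap hπ).isOpen_preimage]
    have heq : π ⁻¹' (π '' W) = W := Set.Subset.antisymm
      (fun z ⟨w, hw, hwz⟩ => mem_of_base_eq hρ hπ hWs hwz hw) (Set.subset_preimage_image _ _)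
    rw [heq]
    exact W.isOpen⟩
  have hU₀W : π ⁻¹ᵁ U₀ ≤ W := fun z ⟨w, hw, hwz⟩ => mem_of_base_eq hρ hπ hWs hwz hw
  obtain ⟨U, hU, hyU, hUU₀⟩ := exists_isAffineOpen_mem_and_subset (x := π x) (U := U₀) ⟨x, hxW, rfl⟩
  have hUW : π ⁻¹ᵁ U ≤ W := (π.preimage_mono hUU₀).trans hU₀W
  exact ⟨{ a := a
           affA := ha₀.basicOpen h
           f := f
           dframe := hdf
           U := U
           affU := hU
           le := hUW.trans hWB
           e := res _ hUW m'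
           eframe := hframe.res hUW
           he := by
             rw [Curves2.idealSect_res, hm']
             simp only [g, ← CommRingCat.comp_apply, ← Functor.map_comp]
             rfl }, hyU⟩

end Groth.Agent.SymSq53

end
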