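import Groth.Agent.SymSq53.Quot
import Groth.Agent.Crv77.DegreeInt

/-!
# The Euler characteristic of an invertible module on the symmetric square
-/

set_option autoImplicit false
set_option backward.isDefEq.respectTransparency.types false
set_option linter.style.haveILetI false
set_option maxSynthPendingDepth 6

universe u

open CategoryTheory CategoryTheory.Limits AlgebraicGeometry TopologicalSpace Opposite FunFld
open scoped Groth.Agent.FGA29

noncomputable section

namespace Groth.Agent.SymSq53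

attribute [local instance] CrvPic30.ffAlg

variable {k : Type u} [Field k] [IsAlgClosed k] {C : Scheme.{u}} [C.Over (Spec (CommRingCat.of k))]
  [IsProper (C ↘ Spec (CommRingCat.of k))] [IsIntegral C]
  {ρ : ULift.{u} (Equiv.Perm (Fin 2)) →* Aut (pullback (C ↘ Spec (CommRingCat.of k)) (C ↘ Spec (CommRingCat.of k)))}
  (hρ : (ρ (ULift.up (Equiv.swap 0 1))).hom = (pullbackSymmetry (C ↘ Spec (CommRingCat.of k)) (C ↘ Spec (CommRingCat.of k))).hom)
  {Sq : Scheme.{u}} {π : pullback (C ↘ Spec (CommRingCat.of k)) (C ↘ Spec (CommRingCat.of k)) ⟶ Sq}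
  (hπ : SGA1.IsQuot ρ π) {q : Sq ⟶ Spec (CommRingCat.of k)}
  (hq : π ≫ q = pullback.fst (C ↘ Spec (CommRingCat.of k)) (C ↘ Spec (CommRingCat.of k)) ≫ (C ↘ Spec (CommRingCat.of k)))
  (h2 : (2 : k) ≠ 0) {κ : C ⟶ CohB1.ProjSpace 1 k} [IsFinite κ]

omit [IsAlgClosed k] [IsIntegral C] [IsFinite κ] in
include hq h2 in
/-- Cohomology upstairs is cohomology of the two eigenparts downstairs. -/
theorem nonempty_hh_split {M : Sq.Modules} (hM : PicF.IsInvertible M) (n : ℕ) :
    letI : Sq.Over (Spec (CommRingCat.of k)) := ⟨q⟩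
    letI := HypSq53.sqOver k C
    Nonempty (Coh.HH _ ((Scheme.Modules.pullback π).obj M) n ≃ₗ[k]
      Coh.HH Sq M n × Coh.HH Sq (CohB1.tensorMod (invol_of_quot hρ hπ h2).E M) n) := by
  letI : Sq.Over (Spec (CommRingCat.of k)) := ⟨q⟩
  letI := HypSq53.sqOver k C
  haveI : IsProper (Sq ↘ Spec (CommRingCat.of k)) := isProper_q hπ hq
  haveI := hπ.affine
  exact (invol_of_quot hρ hπ h2).nonempty_hh_split k hq hM n

omit [IsIntegral C] in
include hρ hπ hq h2 κ in
/-- Finiteness downstairs. -/
theorem finBdd {M : Sq.Modules} (hM : PicF.IsInvertible M) :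
    letI : Sq.Over (Spec (CommRingCat.of k)) := ⟨q⟩
    Crv77.FinBdd k M 3 := by
  letI : Sq.Over (Spec (CommRingCat.of k)) := ⟨q⟩
  letI := HypSq53.sqOver k C
  haveI : IsProper (Sq ↘ Spec (CommRingCat.of k)) := isProper_q hπ hq
  refine ⟨fun n => Serre71.finite_hh_of_isProper k _ (Amp73.isCoh_of_isInvertible hM) n, fun n hn => ?_⟩
  obtain ⟨e⟩ := nonempty_hh_split hρ hπ hq h2 hM n
  haveI := (Amp73.isCoh_of_isInvertible (Amp73.isInvertible_pullback π hM)).1
  haveI := HypSq53.subsingleton_HH (C ↘ Spec (CommRingCat.of k)) (HypSq53.cpair κ) ((Scheme.Modules.pullback π).obj M) n hn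
  haveI : Subsingleton (Coh.HH Sq M n × Coh.HH Sq (CohB1.tensorMod (invol_of_quot hρ hπ h2).E M) n) :=
    e.symm.toEquiv.subsingleton
  exact Function.Surjective.subsingleton (f := (Prod.fst : Coh.HH Sq M n × Coh.HH Sq (CohB1.tensorMod (invol_of_quot hρ hπ h2).E M) n → _))
    fun a => ⟨(a, 0), rfl⟩

omit [IsIntegral C] in
include hρ hπ hq h2 κ in
theorem euler_split (hE : PicF.IsInvertible (invol_of_quot hρ hπ h2).E) {M : Sq.Modules}
    (hM : PicF.IsInvertible M) :
    letI : Sq.Over (Spec (CommRingCat.of k)) := ⟨q⟩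
    letI := HypSq53.sqOver k C
    Curv2.euler k _ ((Scheme.Modules.pullback π).obj M) = Curv2.euler k Sq M +
      Curv2.euler k Sq (CohB1.tensorMod M (invol_of_quot hρ hπ h2).E) := by
  letI : Sq.Over (Spec (CommRingCat.of k)) := ⟨q⟩
  letI := HypSq53.sqOver k C
  have hE' := EGA73.isInvertible_tensorMod hE hM
  have b1 := finBdd (κ := κ) hρ hπ hq h2 hM
  have b2 := finBdd (κ := κ) hρ hπ hq h2 hE'
  have b : Crv77.FinBdd k ((Scheme.Modules.pullback π).obj M) 3 := by
    refine ⟨fun n => ?_, fun n hn => ?_⟩ <;> obtain ⟨e⟩ := nonempty_hh_split hρ hπ hq h2 hM n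
    · haveI := b1.finite n
      haveI := b2.finite n
      exact Module.Finite.equiv e.symm
    · haveI := b1.vanish n hn
      haveI := b2.vanish n hn
      exact e.toEquiv.subsingleton
  rw [Crv77.euler_congr (k := k) (EGA73.tensComm M (invol_of_quot hρ hπ h2).E), b.euler_eq, b1.euler_eq, b2.euler_eq,
    ← Finset.sum_add_distrib]
  refine Finset.sum_congr rfl fun n _ => ?_
  obtain ⟨e⟩ := nonempty_hh_split hρ hπ hq h2 hM n
  haveI := b1.finite n
  haveI := b2.finite n
  rw [e.finrank_eq, Module.finrank_prod, Nat.cast_add, mul_add]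

variable {h : CrvPic30.Setup k C} {g : ℕ} {D : Divisor k C.functionField}

include hρ hπ hq h2 in
/-- `4 χ(M) = 2 χ(π^*M) + χ(C, Δ^*π^*M) - γ`. -/
theorem euler_formula (hdim : topologicalKrullDim C = 1) (hD : HypSq53.Double h κ g D)
    {ND : (pullback (C ↘ Spec (CommRingCat.of k)) (C ↘ Spec (CommRingCat.of k))).Modules} (hND : PicF.IsInvertible ND)
    (hNDinv : ClSub.IsInverseOf ND (ClSub.idealMod (HypSq53.graph (𝟙 C) (Category.id_comp (C ↘ Spec (CommRingCat.of k)))).ker))
    {M : Sq.Modules} (hM : PicF.IsInvertible M) :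
    letI : Sq.Over (Spec (CommRingCat.of k)) := ⟨q⟩
    letI := HypSq53.sqOver k C
    4 * Curv2.euler k Sq M = 2 * Curv2.euler k _ ((Scheme.Modules.pullback π).obj M) +
      Curv2.euler k C ((Scheme.Modules.pullback (HypSq53.graph (𝟙 C) (Category.id_comp (C ↘ Spec (CommRingCat.of k))))).obj
        ((Scheme.Modules.pullback π).obj M)) - ((g : ℤ) - 1) := by
  letI : Sq.Over (Spec (CommRingCat.of k)) := ⟨q⟩
  letI := HypSq53.sqOver k C
  haveI : IsProper (Sq ↘ Spec (CommRingCat.of k)) := isProper_q hπ hq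
  haveI : IsProper ((pullback (C ↘ Spec (CommRingCat.of k)) (C ↘ Spec (CommRingCat.of k))) ↘ Spec (CommRingCat.of k)) :=
    HypSq53.isProper_square
  let dg := HypSq53.graph (𝟙 C) (Category.id_comp (C ↘ Spec (CommRingCat.of k)))
  haveI := HypSq53.isClosedImmersion_graph (𝟙 C) (Category.id_comp (C ↘ Spec (CommRingCat.of k)))
  obtain ⟨hE, hEN⟩ := eigen_spec hρ hπ h2 hdim hNDinv
  let E := (invol_of_quot hρ hπ h2).E
  let F := fun G : Sq.Modules => (Scheme.Modules.pullback π).obj G
  let G1 := CohB1.tensorMod M E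
  let G2 := CohB1.tensorMod G1 E
  have i1 : PicF.IsInvertible G1 := EGA73.isInvertible_tensorMod hM hE
  have i2 : PicF.IsInvertible G2 := EGA73.isInvertible_tensorMod i1 hE
  have hclF : ∀ {G : Sq.Modules}, PicF.IsInvertible G →
      PicF.cl (CohB1.tensorMod (F (CohB1.tensorMod G E)) ND) = PicF.cl (F G) := fun {G} hG => by
    rw [FGA29.cl_tensor, HypSq53.cl_pullback_tensor π hG hE, mul_assoc, hEN, mul_one]
  have step : ∀ {G : Sq.Modules}, PicF.IsInvertible G → Curv2.euler k _ (F G) =
      Curv2.euler k _ (F (CohB1.tensorMod G E)) + Curv2.euler k C ((Scheme.Modules.pullback dg).obj (F G)) := fun {G} hG => by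
    have h1 := HypSq53.euler_tensor_inverse k dg (HypSq53.graph_over (𝟙 C) _) hND hNDinv
      (Amp73.isInvertible_pullback π (EGA73.isInvertible_tensorMod hG hE))
    rw [FGA29.euler_cl k (hclF hG), FGA29.euler_cl k (HypSq53.cl_pullback_congr dg (hclF hG))] at h1
    exact h1
  -- restriction to the diagonal
  have hdeg : Curv2.euler k C ((Scheme.Modules.pullback dg).obj (F G1)) =
      Curv2.euler k C ((Scheme.Modules.pullback dg).obj (F M)) + 2 * ((g : ℤ) - 1) := by
    have := h.isNoetherian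
    have hnorm := hD.cl_normal (𝟙 C) (Category.id_comp _) (Category.id_comp κ) hND hNDinv
    have hFE : PicF.cl ((Scheme.Modules.pullback dg).obj (F E)) = HypSq53.clD h D ((g : ℤ) - 1) := by
      have h1 := congrArg (fun z => z * HypSq53.clD h D ((g : ℤ) - 1))
        ((HypSq53.cl_pullback_tensor dg (Amp73.isInvertible_pullback π hE) hND).symm.trans
          ((HypSq53.cl_pullback_congr dg ((FGA29.cl_tensor _ _).trans (hEN.trans FGA29.cl_one.symm))).trans
            (HypSq53.cl_pullback_one dg)))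
      simp only [one_mul, mul_assoc] at h1
      rw [hnorm, HypSq53.clD_mul, neg_add_cancel, HypSq53.clD_zero, mul_one] at h1
      exact h1
    have hFM := Amp73.isInvertible_pullback dg (Amp73.isInvertible_pullback π hM)
    have h2' := h.curveCoh.euler_tensor_sub hdim.le hFM (h.isInvertible_O (((g : ℤ) - 1) • D))
    rw [hD.euler_eq] at h2'
    rw [FGA29.euler_cl k (G := CohB1.tensorMod ((Scheme.Modules.pullback dg).obj (F M)) (h.O (((g : ℤ) - 1) • D)))
      (by rw [HypSq53.cl_pullback_congr dg ((HypSq53.cl_pullback_tensor π hM hE).trans (FGA29.cl_tensor _ _).symm),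
        HypSq53.cl_pullback_tensor dg (Amp73.isInvertible_pullback π hM) (Amp73.isInvertible_pullback π hE), hFE,
        FGA29.cl_tensor])]
    have h3 : Curv2.euler k C (Coh.structureModule C) = 1 - (g : ℤ) := by
      rw [hD.euler_of_cl (s := 0) (by rw [HypSq53.clD_zero, FGA29.cl_one])]
      ring
    linarith
  -- third difference
  have h0 := FGA29.intE_eq_zero_of_dim_lt k (M := (Fin.cons E (Fin.cons E (Fin.cons E ![])) : Fin 3 → _))
    (Fin.cases hE (Fin.cases hE (Fin.cases hE fun i => i.elim0))) (Amp73.isCoh_of_isInvertible hM)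
    (lt_of_le_of_lt ((topologicalKrullDim_subspace_le _ _).trans (dim_le hπ hdim))
      (by exact_mod_cast (by norm_num : (2 : ℕ) < 3)))
  simp only [FGA29.intE_cons, FGA29.intE_zero] at h0
  have s0 := euler_split (κ := κ) hρ hπ hq h2 hE hM
  have s1 := euler_split (κ := κ) hρ hπ hq h2 hE i1
  have s2 := euler_split (κ := κ) hρ hπ hq h2 hE i2
  have t0 := step hM
  have t1 := step i1
  simp only [F, G1, G2, E, dg] at *
  linarith

end Groth.Agent.SymSq53

end
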