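import Groth.Agent.SymSq53.PushSplit
import Groth.Agent.Curves2.IdealFrame
import Groth.Agent.Curves2.Glue.Descend
import Groth.Agent.Mero90.Frames
import Groth.Agent.Amp73.PullTensor

/-!
# The anti-invariant line bundle when the fixed divisor has anti-invariant equations
-/

set_option autoImplicit false
set_option backward.isDefEq.respectTransparency.types false
set_option linter.style.haveILetI false
set_option maxSynthPendingDepth 6

universe u

open CategoryTheory CategoryTheory.Limits AlgebraicGeometry TopologicalSpace Opposite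

noncomputable section

namespace Groth.Agent.SymSq53

open Var76.LineBundle

/-- A function vanishing on a closed subscheme is a section of its ideal module. -/
theorem exists_idealSect_of_app_eq_zero {X Z : Scheme.{u}} (i : Z ⟶ X) [IsClosedImmersion i] (W : X.Opens)
    (a : Γ(X, W)) (ha : i.app W a = 0) :
    ∃ m, OmegaSh.idealSect i.ker W m = a := by
  refine Omega57.exists_idealSect_eq i.ker W a ?_
  haveI : IsIso i.toImage := inferInstance
  have h1 : i.toImage.app (i.imageι ⁻¹ᵁ W) (i.imageι.app W a) = 0 := by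
    have key : ∀ (g : Z ⟶ X) (_ : g = i), g.app W a = 0 := fun g hg => by subst hg; exact ha
    exact key _ i.toImage_imageι
  refine (ConcreteCategory.bijective_of_isIso (i.toImage.app (i.imageι ⁻¹ᵁ W))).1 ?_
  rw [map_zero]
  exact h1

variable {X S Z : Scheme.{u}} {π : X ⟶ S} {ι : X ⟶ X} (hI : Invol π ι) (i : Z ⟶ X) [IsClosedImmersion i]
  (hi : i ≫ ι = i)

/-- A local anti-invariant equation of the fixed divisor over an open of the quotient. -/
def AntiEq (hI : Invol π ι) (U : S.Opens) : Prop :=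
  ∃ e : Γ(ClSub.idealMod i.ker, π ⁻¹ᵁ U), IsFrame (ClSub.idealMod i.ker) (π ⁻¹ᵁ U) e ∧
    hI.flip (OmegaSh.idealSect i.ker (π ⁻¹ᵁ U) e) = -OmegaSh.idealSect i.ker (π ⁻¹ᵁ U) e

include hi in
/-- Anti-invariant functions vanish on the fixed locus. -/
theorem app_anti_eq_zero {U : S.Opens} (a : Γ(X, π ⁻¹ᵁ U)) (ha : hI.flip a = -a) :
    i.app (π ⁻¹ᵁ U) a = 0 := by
  have h1 : i.app (π ⁻¹ᵁ U) (hI.flip a) = i.app (π ⁻¹ᵁ U) a := by
    have key : ∀ (g : Z ⟶ X) (_ : g = i) (h : i ⁻¹ᵁ (π ⁻¹ᵁ U) ≤ g ⁻¹ᵁ (π ⁻¹ᵁ U)),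
        g.appLE (π ⁻¹ᵁ U) (i ⁻¹ᵁ (π ⁻¹ᵁ U)) h a = i.app (π ⁻¹ᵁ U) a := fun g hg h => by
      subst hg
      rw [Scheme.Hom.app_eq_appLE]
    rw [Scheme.Hom.app_eq_appLE]
    show (ι.appLE (π ⁻¹ᵁ U) (π ⁻¹ᵁ U) _ ≫ i.appLE (π ⁻¹ᵁ U) (i ⁻¹ᵁ (π ⁻¹ᵁ U)) _) a = _
    rw [Scheme.Hom.appLE_comp_appLE, ← Scheme.Hom.app_eq_appLE]
    exact key _ hi _
  rw [ha, map_neg] at h1
  have hu : IsUnit (2 : Γ(Z, i ⁻¹ᵁ (π ⁻¹ᵁ U))) := by
    have h := (hI.isUnit_two (π ⁻¹ᵁ U)).map (i.app (π ⁻¹ᵁ U)).hom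
    rwa [map_ofNat] at h
  refine hu.mul_left_cancel ?_
  rw [mul_zero, two_mul]
  nth_rw 1 [← h1]
  exact neg_add_cancel _

include hi in
/-- An anti-invariant equation frames the anti-invariant eigensheaf. -/
theorem exists_frame_E {U : S.Opens} (h : AntiEq i hI U) :
    ∃ (s : Γ(hI.E, U)) (e : Γ(ClSub.idealMod i.ker, π ⁻¹ᵁ U)), IsFrame hI.E U s ∧
      IsFrame (ClSub.idealMod i.ker) (π ⁻¹ᵁ U) e ∧
        fn (hI.anti.ι.app U s) = OmegaSh.idealSect i.ker (π ⁻¹ᵁ U) e := by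
  obtain ⟨e, he, hflip⟩ := h
  let s : Γ(hI.E, U) := (⟨(show Γ(OX π, U) from OmegaSh.idealSect i.ker (π ⁻¹ᵁ U) e), hflip⟩ : hI.anti.obj U)
  refine ⟨s, e, fun V hV => ?_, he, rfl⟩
  have hval : ∀ b : Γ(S, V), fn (hI.anti.ι.app V (b • res hI.E hV s)) =
      OmegaSh.idealSect i.ker (π ⁻¹ᵁ V) ((π.app V).hom b • res (ClSub.idealMod i.ker) (π.preimage_mono hV) e) := by
    intro b
    rw [Omega57.idealSect_smul, Curves2.idealSect_res, Scheme.Modules.Hom.app_smul, OX_smul, Mero90.app_res, OX_res]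
    rfl
  refine ⟨fun b b' hb => ?_, fun t => ?_⟩
  · refine hI.inj V ((he _ (π.preimage_mono hV)).1 (Omega57.idealSect_injective i.ker _ ?_))
    rw [← hval b, ← hval b']
    exact congrArg (fun z => fn (hI.anti.ι.app V z)) hb
  · have hneg : hI.flip (fn (show hI.anti.obj V from t).1) = -fn (show hI.anti.obj V from t).1 :=
      (show hI.anti.obj V from t).2
    obtain ⟨m, hm⟩ := exists_idealSect_of_app_eq_zero i (π ⁻¹ᵁ V) _ (app_anti_eq_zero hI i hi _ hneg)
    obtain ⟨c, hc⟩ := (he _ (π.preimage_mono hV)).2 m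
    dsimp only at hc
    have hcm : fn (show hI.anti.obj V from t).1 =
        c * OmegaSh.idealSect i.ker (π ⁻¹ᵁ V) (res (ClSub.idealMod i.ker) (π.preimage_mono hV) e) := by
      rw [← Omega57.idealSect_smul, hc, hm]
    have he' : hI.flip (OmegaSh.idealSect i.ker (π ⁻¹ᵁ V) (res (ClSub.idealMod i.ker) (π.preimage_mono hV) e)) =
        -OmegaSh.idealSect i.ker (π ⁻¹ᵁ V) (res (ClSub.idealMod i.ker) (π.preimage_mono hV) e) := by
      rw [Curves2.idealSect_res, hI.flip_res hV, hflip, map_neg]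
    have hc' : hI.flip c = c := by
      refine (he _ (π.preimage_mono hV)).1 (Omega57.idealSect_injective i.ker _ ?_)
      dsimp only
      rw [Omega57.idealSect_smul, Omega57.idealSect_smul, ← hcm]
      have h2 := congrArg hI.flip hcm
      rw [hneg, map_mul, he', mul_neg, neg_inj] at h2
      exact h2.symm
    obtain ⟨b, hb⟩ := hI.range V c hc'
    refine ⟨b, QC70.app_injective_of_mono hI.anti.ι V ?_⟩
    exact (hval b).trans ((congrArg (fun z => OmegaSh.idealSect i.ker (π ⁻¹ᵁ V)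
      (z • res (ClSub.idealMod i.ker) (π.preimage_mono hV) e)) hb).trans
        ((congrArg (OmegaSh.idealSect i.ker (π ⁻¹ᵁ V)) hc).trans hm))

variable (hloc : ∀ y : S, ∃ U : S.Opens, y ∈ U ∧ AntiEq i hI U)

include hi hloc in
theorem isInvertible_E : PicF.IsInvertible hI.E :=
  Mero90.isInvertible_of_frames fun y => by
    obtain ⟨U, hy, h⟩ := hloc y
    obtain ⟨s, -, hs, -, -⟩ := exists_frame_E hI i hi h
    exact ⟨U, hy, s, hs⟩

include hi hloc in
/-- The eigensheaf pulls back to the ideal of the fixed divisor. -/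
theorem nonempty_pullback_E : Nonempty ((Scheme.Modules.pullback π).obj hI.E ≅ ClSub.idealMod i.ker) := by
  have hE := isInvertible_E hI i hi hloc
  choose U hy hU using hloc
  choose s e hs he hse using fun y => exists_frame_E hI i hi (hU y)
  refine Curves2.Glue.nonempty_iso_of_frames (fun y : S => π ⁻¹ᵁ U y) (fun x => ⟨π x, hy (π x)⟩)
    (fun y => Amp73.pullS π hI.E (U y) (s y)) e (fun y => Amp73.isFrame_pullS π hE (hs y)) he ?_
  intro y z c hc
  obtain ⟨d, hd⟩ := (hs z (U y ⊓ U z) inf_le_right).2 (res hI.E inf_le_left (s y))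
  dsimp only at hd
  have hc' : c = (π.app (U y ⊓ U z)).hom d := by
    refine (Amp73.isFrame_pullS π hE (hs z) (π ⁻¹ᵁ (U y ⊓ U z)) (π.preimage_mono inf_le_right)).1 (hc.trans ?_)
    have h1 := congrArg (Amp73.pullS π hI.E (U y ⊓ U z)) hd
    rw [Amp73.pullS_smul, ← Amp73.res_pullS, ← Amp73.res_pullS] at h1
    exact h1.symm
  subst hc'
  refine Omega57.idealSect_injective i.ker _ ?_
  have h2 := congrArg (fun w => fn (hI.anti.ι.app (U y ⊓ U z) w)) hd
  dsimp only at h2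
  rw [Scheme.Modules.Hom.app_smul, Mero90.app_res, Mero90.app_res, OX_smul, OX_res, OX_res, hse, hse] at h2
  rw [Omega57.idealSect_smul, Curves2.idealSect_res, Curves2.idealSect_res]
  exact h2

end Groth.Agent.SymSq53

end
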