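import Groth.Agent.Quot84.Basic
import Groth.Agent.QC70.SubMod
import Groth.Agent.Var76.RegMaps
import Groth.Agent.Var76.HHPush
import Groth.Agent.ValVan29.PushTwist
import Groth.Agent.QCqs72.Basic
import Groth.Agent.Amp73.GlobGen

/-!
# The two eigensheaves of a double quotient
-/

set_option autoImplicit false
set_option backward.isDefEq.respectTransparency.types false
set_option linter.style.haveILetI false
set_option maxSynthPendingDepth 6

universe u

open CategoryTheory CategoryTheory.Limits AlgebraicGeometry TopologicalSpace Opposite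

noncomputable section

namespace Groth.Agent.SymSq53

open Var76.LineBundle

variable {X S : Scheme.{u}}

/-- An involution of `X` over `S` whose invariants are the functions of `S`, with two invertible. -/
structure Invol (π : X ⟶ S) (ι : X ⟶ X) : Prop where
  comp : ι ≫ π = π
  sq : ι ≫ ι = 𝟙 X
  inj : ∀ U : S.Opens, Function.Injective (π.app U).hom
  range : ∀ (U : S.Opens) (s : Γ(X, π ⁻¹ᵁ U)), (Quot84.pull π ι comp U).hom s = s → ∃ t, (π.app U).hom t = s
  two : IsUnit (2 : Γ(X, ⊤))

variable {π : X ⟶ S} {ι : X ⟶ X} (hI : Invol π ι)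

/-- The direct image of the structure module. -/
abbrev OX (π : X ⟶ S) : S.Modules := (Coh.push π).obj (Coh.structureModule X)

/-- A section of the direct image as a function. -/
abbrev fn {U : S.Opens} (s : Γ(OX π, U)) : Γ(X, π ⁻¹ᵁ U) := s

theorem OX_smul {U : S.Opens} (c : Γ(S, U)) (s : Γ(OX π, U)) : fn (c • s) = (π.app U).hom c * fn s := rfl

theorem OX_res {U V : S.Opens} (h : V ≤ U) (s : Γ(OX π, U)) :
    fn (res (OX π) h s) = (X.presheaf.map (homOfLE (π.preimage_mono h)).op).hom (fn s) := rfl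

theorem Invol.isUnit_two (V : X.Opens) (hI : Invol π ι) : IsUnit (2 : Γ(X, V)) := by
  have h := hI.two.map (X.presheaf.map (homOfLE (le_top : V ≤ ⊤)).op).hom
  rwa [map_ofNat] at h

/-- One half. -/
def Invol.half (V : X.Opens) : Γ(X, V) := ((hI.isUnit_two V).unit⁻¹ : (Γ(X, V))ˣ)

theorem Invol.two_mul_half (V : X.Opens) : 2 * hI.half V = 1 := (hI.isUnit_two V).mul_val_inv

theorem Invol.half_map {V V' : X.Opens} (f : Γ(X, V) →+* Γ(X, V')) : f (hI.half V) = hI.half V' :=
  (hI.isUnit_two V').mul_left_cancel (by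
    rw [hI.two_mul_half, show (2 : Γ(X, V')) = f 2 from (map_ofNat f 2).symm, ← map_mul, hI.two_mul_half, map_one])

/-- The involution on functions. -/
abbrev Invol.flip {U : S.Opens} : Γ(X, π ⁻¹ᵁ U) →+* Γ(X, π ⁻¹ᵁ U) := (Quot84.pull π ι hI.comp U).hom

theorem Invol.flip_flip {U : S.Opens} (s : Γ(X, π ⁻¹ᵁ U)) : hI.flip (hI.flip s) = s := by
  show (Quot84.pull π ι hI.comp U ≫ Quot84.pull π ι hI.comp U).hom s = s
  rw [← Quot84.pull_comp π hI.comp hI.comp, Quot84.pull_congr π _ (Category.id_comp π) hI.sq, Quot84.pull_id]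
  rfl

theorem Invol.flip_app {U : S.Opens} (c : Γ(S, U)) : hI.flip ((π.app U).hom c) = (π.app U).hom c :=
  Quot84.app_pull_apply π hI.comp U c

theorem Invol.flip_res {U V : S.Opens} (h : V ≤ U) (s : Γ(X, π ⁻¹ᵁ U)) :
    hI.flip ((X.presheaf.map (homOfLE (π.preimage_mono h)).op).hom s) =
      (X.presheaf.map (homOfLE (π.preimage_mono h)).op).hom (hI.flip s) :=
  Quot84.pull_res_apply π hI.comp h s

/-- The anti-invariant sections. -/
def Invol.anti : QC70.LocalSubmod (OX π) where
  obj U :=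
    { carrier := {s | hI.flip (fn s) = -fn s}
      zero_mem' := by
        show hI.flip (0 : Γ(X, π ⁻¹ᵁ U)) = -(0 : Γ(X, π ⁻¹ᵁ U))
        rw [map_zero, neg_zero]
      add_mem' := fun {a b} ha hb => by
        show hI.flip (fn a + fn b) = -(fn a + fn b)
        rw [map_add, ha, hb, neg_add]
      smul_mem' := fun c s hs => by
        show hI.flip ((π.app U).hom c * fn s) = -((π.app U).hom c * fn s)
        rw [map_mul, hI.flip_app, hs, mul_neg] }
  res_mem {V W} h {s} hs := by
    show hI.flip (fn (res (OX π) h s)) = -fn (res (OX π) h s)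
    rw [OX_res, hI.flip_res h, hs, map_neg]
  of_locally {V} s hs := by
    choose W hW hxW hmem using hs
    refine Var76.ZeroScheme.eq_of_locally (OX π) (show Γ(OX π, V) from hI.flip (fn s)) (show Γ(OX π, V) from -fn s)
      fun x hx => ⟨W x hx, hW x hx, hxW x hx, ?_⟩
    show (X.presheaf.map (homOfLE (π.preimage_mono (hW x hx))).op).hom (hI.flip (fn s)) =
      (X.presheaf.map (homOfLE (π.preimage_mono (hW x hx))).op).hom (-fn s)
    rw [← hI.flip_res (hW x hx), map_neg]
    exact hmem x hx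

/-- The anti-invariant eigensheaf. -/
abbrev Invol.E : S.Modules := hI.anti.mod

/-- The inclusion of the invariants. -/
def unit (π : X ⟶ S) : Coh.structureModule S ⟶ OX π :=
  QC70.HomOn.toHom
    { app := fun U _ =>
        { toFun := fun c => (show Γ(OX π, U) from (π.app U).hom c)
          map_add' := fun a b => map_add (π.app U).hom a b
          map_smul' := fun r a => map_mul (π.app U).hom r a }
      app_res := fun _ h c => Quot84.app_res_apply π h c }

theorem unit_app {U : S.Opens} (c : Γ(S, U)) : fn ((unit π).app U c) = (π.app U).hom c := rfl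

/-- The mean of a function. -/
def Invol.meanVal {U : S.Opens} (s : Γ(X, π ⁻¹ᵁ U)) : Γ(S, U) :=
  (hI.range U (hI.half _ * (s + hI.flip s)) (by
    show hI.flip _ = _
    rw [map_mul, map_add, hI.flip_flip, hI.half_map, add_comm])).choose

theorem Invol.app_meanVal {U : S.Opens} (s : Γ(X, π ⁻¹ᵁ U)) :
    (π.app U).hom (hI.meanVal s) = hI.half _ * (s + hI.flip s) :=
  (hI.range U (hI.half _ * (s + hI.flip s)) (by
    show hI.flip _ = _
    rw [map_mul, map_add, hI.flip_flip, hI.half_map, add_comm])).choose_spec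

/-- The projection to the invariants. -/
def Invol.mean : OX π ⟶ Coh.structureModule S :=
  QC70.HomOn.toHom
    { app := fun U _ =>
        { toFun := fun s => (show Γ(Coh.structureModule S, U) from hI.meanVal (fn s))
          map_add' := fun a b => hI.inj U (by
            show (π.app U).hom (hI.meanVal (fn a + fn b)) = (π.app U).hom (hI.meanVal (fn a) + hI.meanVal (fn b))
            rw [map_add, hI.app_meanVal, hI.app_meanVal, hI.app_meanVal, map_add]
            ring)
          map_smul' := fun r a => hI.inj U (by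
            show (π.app U).hom (hI.meanVal ((π.app U).hom r * fn a)) = (π.app U).hom (r * hI.meanVal (fn a))
            rw [map_mul, hI.app_meanVal, hI.app_meanVal, map_mul, hI.flip_app]
            ring) }
      app_res := fun {W W'} _ h s => hI.inj W' (by
        show (π.app W').hom (hI.meanVal (fn (res (OX π) h s))) =
          (π.app W').hom ((S.presheaf.map (homOfLE h).op).hom (hI.meanVal (fn s)))
        rw [Quot84.app_res_apply, hI.app_meanVal, hI.app_meanVal, OX_res, hI.flip_res h, map_mul, map_add,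
          hI.half_map]) }

theorem Invol.app_mean {U : S.Opens} (s : Γ(OX π, U)) :
    (π.app U).hom (hI.mean.app U s) = hI.half _ * (fn s + hI.flip (fn s)) := hI.app_meanVal (fn s)

/-- The odd part of a function. -/
def Invol.oddVal {U : S.Opens} (s : Γ(X, π ⁻¹ᵁ U)) : Γ(X, π ⁻¹ᵁ U) := hI.half _ * (s - hI.flip s)

theorem Invol.oddVal_add {U : S.Opens} (a b : Γ(X, π ⁻¹ᵁ U)) :
    hI.oddVal (a + b) = hI.oddVal a + hI.oddVal b := by
  simp only [Invol.oddVal, map_add]
  ring

theorem Invol.oddVal_smul {U : S.Opens} (r : Γ(S, U)) (a : Γ(X, π ⁻¹ᵁ U)) :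
    hI.oddVal ((π.app U).hom r * a) = (π.app U).hom r * hI.oddVal a := by
  simp only [Invol.oddVal, map_mul, hI.flip_app]
  ring

/-- The endomorphism `(1 - ι)/2`. -/
def Invol.oddEnd : OX π ⟶ OX π :=
  QC70.HomOn.toHom
    { app := fun U _ =>
        { toFun := fun s => (show Γ(OX π, U) from hI.oddVal (fn s))
          map_add' := fun a b => hI.oddVal_add (fn a) (fn b)
          map_smul' := fun r a => hI.oddVal_smul r (fn a) }
      app_res := fun {W W'} _ h s => by
        show hI.oddVal (fn (res (OX π) h s)) =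
          (X.presheaf.map (homOfLE (π.preimage_mono h)).op).hom (hI.oddVal (fn s))
        simp only [Invol.oddVal]
        rw [OX_res, hI.flip_res h, map_mul, map_sub, hI.half_map] }

/-- The projection to the anti-invariants. -/
def Invol.odd : OX π ⟶ hI.E :=
  hI.anti.lift hI.oddEnd fun U s => by
    show hI.flip (hI.half _ * (fn s - hI.flip (fn s))) = -(hI.half _ * (fn s - hI.flip (fn s)))
    rw [map_mul, map_sub, hI.flip_flip, hI.half_map]
    ring

theorem Invol.unit_mean : unit π ≫ hI.mean = 𝟙 _ :=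
  Scheme.Modules.hom_ext _ _ fun U => by
    ext (c : Γ(S, U))
    refine hI.inj U ?_
    show (π.app U).hom (hI.mean.app U ((unit π).app U c)) = (π.app U).hom c
    rw [hI.app_mean, unit_app, hI.flip_app]
    linear_combination ((π.app U).hom c) * hI.two_mul_half (π ⁻¹ᵁ U)

theorem Invol.ι_odd : hI.anti.ι ≫ hI.odd = 𝟙 _ :=
  Scheme.Modules.hom_ext _ _ fun U => by
    ext (s : hI.anti.obj U)
    refine QC70.app_injective_of_mono hI.anti.ι U ?_
    show hI.half _ * (fn s.1 - hI.flip (fn s.1)) = fn s.1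
    rw [show hI.flip (fn s.1) = -fn s.1 from s.2]
    linear_combination (fn s.1) * hI.two_mul_half (π ⁻¹ᵁ U)

theorem Invol.unit_odd : unit π ≫ hI.odd = 0 :=
  Scheme.Modules.hom_ext _ _ fun U => by
    ext (c : Γ(S, U))
    refine QC70.app_injective_of_mono hI.anti.ι U ?_
    show hI.half _ * ((π.app U).hom c - hI.flip ((π.app U).hom c)) = (0 : Γ(X, π ⁻¹ᵁ U))
    rw [hI.flip_app, sub_self, mul_zero]

theorem Invol.ι_mean : hI.anti.ι ≫ hI.mean = 0 :=
  Scheme.Modules.hom_ext _ _ fun U => by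
    ext (s : hI.anti.obj U)
    refine hI.inj U ?_
    show (π.app U).hom (hI.mean.app U s.1) = (π.app U).hom 0
    rw [hI.app_mean, show hI.flip (fn s.1) = -fn s.1 from s.2, add_neg_cancel, mul_zero, map_zero]

theorem Invol.total : hI.mean ≫ unit π + hI.odd ≫ hI.anti.ι = 𝟙 (OX π) :=
  Scheme.Modules.hom_ext _ _ fun U => by
    ext (s : Γ(OX π, U))
    show (π.app U).hom (hI.mean.app U s) + hI.half _ * (fn s - hI.flip (fn s)) = fn s
    rw [hI.app_mean]
    linear_combination (fn s) * hI.two_mul_half (π ⁻¹ᵁ U)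

section Cohomology

variable (k : Type u) [Field k] [S.Over (Spec (CommRingCat.of k))]

theorem hmap_add {M N : S.Modules} (φ ψ : M ⟶ N) (n : ℕ) (x : Coh.HH S M n) :
    Crv77.hmap k (φ + ψ) n x = Crv77.hmap k φ n x + Crv77.hmap k ψ n x :=
  Eq.trans (congrArg (fun q => Abelian.Ext.comp x q (add_zero n))
    ((congrArg Abelian.Ext.mk₀ ((Crv77.toAbF S).map_add (f := φ) (g := ψ))).trans
      (Abelian.Ext.mk₀_add _ _))) (Abelian.Ext.comp_add x _ _ _)

theorem hmap_zero {M N : S.Modules} (n : ℕ) (x : Coh.HH S M n) :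
    Crv77.hmap k (0 : M ⟶ N) n x = 0 := by
  have h := hmap_add k (0 : M ⟶ N) 0 n x
  rw [add_zero] at h
  exact left_eq_add.1 h

/-- Cohomology of a biproduct given by four maps. -/
theorem nonempty_hh_prod {A B T : S.Modules} (a : A ⟶ T) (p : T ⟶ A) (b : B ⟶ T) (q : T ⟶ B)
    (hap : a ≫ p = 𝟙 A) (hbq : b ≫ q = 𝟙 B) (haq : a ≫ q = 0) (hbp : b ≫ p = 0)
    (hT : p ≫ a + q ≫ b = 𝟙 T) (n : ℕ) :
    Nonempty (Coh.HH S T n ≃ₗ[k] Coh.HH S A n × Coh.HH S B n) := by
  refine ⟨LinearEquiv.ofLinearMap ((Crv77.hmap k p n).prod (Crv77.hmap k q n))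
    ((Crv77.hmap k a n).coprod (Crv77.hmap k b n)) (LinearMap.ext fun x => ?_) (LinearMap.ext fun x => ?_)⟩
  · simp only [LinearMap.comp_apply, LinearMap.prod_apply, Function.prod, LinearMap.coprod_apply, LinearMap.id_apply,
      map_add, Crv77.hmap_comp, hap, hbq, haq, hbp, Crv77.hmap_id, hmap_zero]
    exact Prod.ext (add_zero _) (zero_add _)
  · simp only [LinearMap.comp_apply, LinearMap.prod_apply, Function.prod, LinearMap.coprod_apply, LinearMap.id_apply,
      Crv77.hmap_comp, ← hmap_add, hT, Crv77.hmap_id]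

end Cohomology

theorem whiskR_add {M N : S.Modules} (φ ψ : M ⟶ N) (L : S.Modules) :
    Var76.Reg.whiskR (φ + ψ) L = Var76.Reg.whiskR φ L + Var76.Reg.whiskR ψ L :=
  (Mod48.tR (O := S.sheaf) L).map_add

/-- Cohomology upstairs is the sum of the two eigenparts. -/
theorem Invol.nonempty_hh_split (k : Type u) [Field k] [X.Over (Spec (CommRingCat.of k))]
    [S.Over (Spec (CommRingCat.of k))] [IsProper (S ↘ Spec (CommRingCat.of k))] [IsAffineHom π]
    (hπ : π ≫ (S ↘ Spec (CommRingCat.of k)) = X ↘ Spec (CommRingCat.of k))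
    {M : S.Modules} (hM : PicF.IsInvertible M) (n : ℕ) :
    Nonempty (Coh.HH X ((Scheme.Modules.pullback π).obj M) n ≃ₗ[k]
      Coh.HH S M n × Coh.HH S (CohB1.tensorMod hI.E M) n) := by
  let e : CohB1.tensorMod (OX π) M ≅ (Coh.push π).obj ((Scheme.Modules.pullback π).obj M) :=
    ValVan29.projIso π _ M hM ≪≫ (Coh.push π).mapIso (EGA73.tensUnitLeft _)
  have : ((Scheme.Modules.pullback π).obj M).IsQuasicoherent :=
    (Amp73.isCoh_of_isInvertible (Amp73.isInvertible_pullback π hM)).1
  obtain ⟨e₁⟩ := Var76.nonempty_hhLin_push (A := k) π hπ ((Scheme.Modules.pullback π).obj M)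
    (QCqs72.isQuasicoherent_pushforward _ _) n
  let w {F G : S.Modules} (φ : F ⟶ G) := Var76.Reg.whiskR φ M
  have c : ∀ {F G H : S.Modules} (φ : F ⟶ G) (ψ : G ⟶ H), w φ ≫ w ψ = w (φ ≫ ψ) := fun φ ψ =>
    (Var76.Reg.whiskR_comp φ ψ M).symm
  have z : ∀ {F G : S.Modules}, w (0 : F ⟶ G) = 0 := fun {F G} => (Mod48.tR (O := S.sheaf) M).map_zero F G
  have i : ∀ {F : S.Modules}, w (𝟙 F) = 𝟙 _ := fun {F} => (Mod48.tR (O := S.sheaf) M).map_id F
  obtain ⟨e₂⟩ := nonempty_hh_prod k (w (unit π)) (w hI.mean) (w hI.anti.ι) (w hI.odd)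
    (by rw [c, hI.unit_mean, i]) (by rw [c, hI.ι_odd, i]) (by rw [c, hI.unit_odd, z]) (by rw [c, hI.ι_mean, z])
    (by rw [c, c, ← whiskR_add, hI.total]; exact i) n
  exact ⟨e₁.symm.trans ((Crv77.hEquiv k e n).symm.trans
    (e₂.trans (LinearEquiv.prodCongr (Crv77.hEquiv k (EGA73.tensUnitLeft M) n) (LinearEquiv.refl k _))))⟩

end Groth.Agent.SymSq53

end
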