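import Groth.Agent.SymSq53.Sym
import Groth.Agent.HypSq53.Square
import Groth.Agent.HypSq53.Fibre
import Groth.Agent.An92.Ample.Inverse
import Groth.Agent.S7552

/-!
# The symmetric square as a proper surface
-/

set_option autoImplicit false
set_option backward.isDefEq.respectTransparency.types false
set_option linter.style.haveILetI false
set_option maxSynthPendingDepth 6

universe u

open CategoryTheory CategoryTheory.Limits AlgebraicGeometry TopologicalSpace Opposite
open scoped Groth.Agent.FGA29

noncomputable section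

namespace Groth.Agent.SymSq53

variable {k : Type u} [Field k] {C : Scheme.{u}} [C.Over (Spec (CommRingCat.of k))]
  [IsProper (C ↘ Spec (CommRingCat.of k))]
  {ρ : ULift.{u} (Equiv.Perm (Fin 2)) →* Aut (pullback (C ↘ Spec (CommRingCat.of k)) (C ↘ Spec (CommRingCat.of k)))}
  (hρ : (ρ (ULift.up (Equiv.swap 0 1))).hom = (pullbackSymmetry (C ↘ Spec (CommRingCat.of k)) (C ↘ Spec (CommRingCat.of k))).hom)
  {Sq : Scheme.{u}} {π : pullback (C ↘ Spec (CommRingCat.of k)) (C ↘ Spec (CommRingCat.of k)) ⟶ Sq}
  (hπ : SGA1.IsQuot ρ π) {q : Sq ⟶ Spec (CommRingCat.of k)}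
  (hq : π ≫ q = pullback.fst (C ↘ Spec (CommRingCat.of k)) (C ↘ Spec (CommRingCat.of k)) ≫ (C ↘ Spec (CommRingCat.of k)))

include hπ hq in
theorem isProper_q : IsProper q := by
  have hp : IsProper (π ≫ q) := hq ▸ HypSq53.isProper_square
  have : IsSeparated q := (Quot84.isSeparated_iff hπ q).1 inferInstance
  have : LocallyOfFiniteType q := Quot84.locallyOfFiniteType_desc hπ q
  have : Surjective π := ⟨Quot84.surjective hπ⟩
  have : UniversallyClosed q := UniversallyClosed.of_comp_surjective π q
  exact {}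

include hπ in
theorem dim_le (hdim : topologicalKrullDim C = 1) : topologicalKrullDim Sq ≤ 2 := by
  have := Quot84.isIntegralHom hπ
  exact (Groth.Agent.S7552.result π π.continuous (Quot84.surjective hπ)
    (Or.inl π.isClosedMap.specializingMap)).trans (HypSq53.dim_square_le hdim)

section Diagonal

variable {σ : C ⟶ C} (hσp : σ ≫ (C ↘ Spec (CommRingCat.of k)) = C ↘ Spec (CommRingCat.of k))
  (hσ2 : σ ≫ σ = 𝟙 C)

include hσ2 in
/-- An inverse of the ideal of the diagonal from one of the ideal of the graph of an involution. -/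
theorem exists_diag_inverse {N : (pullback (C ↘ Spec (CommRingCat.of k)) (C ↘ Spec (CommRingCat.of k))).Modules}
    (hN : PicF.IsInvertible N) (hNinv : ClSub.IsInverseOf N (ClSub.idealMod (HypSq53.graph σ hσp).ker)) :
    ∃ ND : (pullback (C ↘ Spec (CommRingCat.of k)) (C ↘ Spec (CommRingCat.of k))).Modules,
      PicF.IsInvertible ND ∧
        ClSub.IsInverseOf ND (ClSub.idealMod (HypSq53.graph (𝟙 C) (Category.id_comp (C ↘ Spec (CommRingCat.of k)))).ker) := by
  let p := C ↘ Spec (CommRingCat.of k)
  let τ : pullback p p ⟶ pullback p p := pullback.lift (pullback.fst p p) (pullback.snd p p ≫ σ)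
    (by rw [Category.assoc, hσp]; exact pullback.condition)
  have h1 : τ ≫ τ = 𝟙 _ := by
    refine pullback.hom_ext ?_ ?_
    · rw [Category.assoc, pullback.lift_fst, pullback.lift_fst, Category.id_comp]
    · rw [Category.assoc, pullback.lift_snd, pullback.lift_snd_assoc, Category.assoc, hσ2, Category.comp_id,
        Category.id_comp]
  have : IsIso τ := ⟨τ, h1, h1⟩
  have := HypSq53.isClosedImmersion_graph σ hσp
  have := HypSq53.isClosedImmersion_graph (𝟙 C) (Category.id_comp p)
  have hpb : IsPullback (HypSq53.graph (𝟙 C) (Category.id_comp p)) (𝟙 C) τ (HypSq53.graph σ hσp) := by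
    refine IsPullback.of_vert_isIso ⟨pullback.hom_ext ?_ ?_⟩
    · rw [Category.assoc, pullback.lift_fst, pullback.lift_fst, Category.assoc, pullback.lift_fst, Category.id_comp]
    · rw [Category.assoc, pullback.lift_snd, pullback.lift_snd_assoc, Category.assoc, pullback.lift_snd,
        Category.id_comp]
  exact ⟨_, Amp73.isInvertible_pullback τ hN, HypSq53.inverse_pullback hpb hN hNinv⟩

end Diagonal

variable [IsIntegral C]

include hρ hπ in
/-- The eigensheaf is invertible and pulls back to the ideal of the diagonal. -/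
theorem eigen_spec (h2 : (2 : k) ≠ 0) (hdim : topologicalKrullDim C = 1)
    {ND : (pullback (C ↘ Spec (CommRingCat.of k)) (C ↘ Spec (CommRingCat.of k))).Modules}
    (hNDinv : ClSub.IsInverseOf ND (ClSub.idealMod (HypSq53.graph (𝟙 C) (Category.id_comp (C ↘ Spec (CommRingCat.of k)))).ker)) :
    PicF.IsInvertible (invol_of_quot hρ hπ h2).E ∧
      PicF.cl ((Scheme.Modules.pullback π).obj (invol_of_quot hρ hπ h2).E) * PicF.cl ND = 1 := by
  have := HypSq53.isClosedImmersion_graph (𝟙 C) (Category.id_comp (C ↘ Spec (CommRingCat.of k)))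
  have hi : HypSq53.graph (𝟙 C) (Category.id_comp (C ↘ Spec (CommRingCat.of k))) ≫
      (pullbackSymmetry (C ↘ Spec (CommRingCat.of k)) (C ↘ Spec (CommRingCat.of k))).hom =
        HypSq53.graph (𝟙 C) (Category.id_comp (C ↘ Spec (CommRingCat.of k))) :=
    pullback.hom_ext
      (by rw [Category.assoc, pullbackSymmetry_hom_comp_fst, pullback.lift_snd, pullback.lift_fst])
      (by rw [Category.assoc, pullbackSymmetry_hom_comp_snd, pullback.lift_snd, pullback.lift_fst])
  have hD : PicF.IsInvertible (ClSub.idealMod (HypSq53.graph (𝟙 C) (Category.id_comp (C ↘ Spec (CommRingCat.of k)))).ker) := by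
    obtain ⟨e⟩ := hNDinv
    exact Inv57.isInvertible_of_tensorMod_iso (EGA73.tensComm _ ND ≪≫ e)
  have hloc := exists_antiEq hρ hπ h2 hdim hD
  refine ⟨isInvertible_E _ _ hi hloc, ?_⟩
  obtain ⟨e⟩ := nonempty_pullback_E _ _ hi hloc
  rw [HypSq53.cl_eq_of_iso e, mul_comm, HypSq53.cl_inverse hNDinv]

end Groth.Agent.SymSq53

end
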