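import Groth.Agent.SymSq53.Local
import Groth.Agent.HypSq53.DiagGraph
import Groth.Agent.Quot84.Props
import Groth.Agent.Quot84.Finiteness
import Groth.Agent.Curves2.ProjectiveCurve

/-!
# The symmetric square of a curve has anti-invariant equations of the diagonal
-/

set_option autoImplicit false
set_option backward.isDefEq.respectTransparency.types false
set_option linter.style.haveILetI false
set_option maxSynthPendingDepth 6

universe u

open CategoryTheory CategoryTheory.Limits AlgebraicGeometry TopologicalSpace Opposite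
open Groth.Agent.Var76.LineBundle
open scoped nonZeroDivisors

noncomputable section

namespace Groth.Agent.SymSq53

open HypSq53 (box box_le_fst box_le_snd)

variable {k : Type u} [Field k] {C : Scheme.{u}} [C.Over (Spec (CommRingCat.of k))]

theorem perm_two (g : ULift.{u} (Equiv.Perm (Fin 2))) : g = 1 ∨ g = ULift.up (Equiv.swap 0 1) := by
  obtain ⟨g⟩ := g
  rcases (by decide : ∀ g : Equiv.Perm (Fin 2), g = 1 ∨ g = Equiv.swap 0 1) g with rfl | rfl
  · exact Or.inl rfl
  · exact Or.inr rfl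

variable {ρ : ULift.{u} (Equiv.Perm (Fin 2)) →* Aut (pullback (C ↘ Spec (CommRingCat.of k)) (C ↘ Spec (CommRingCat.of k)))}
  (hρ : (ρ (ULift.up (Equiv.swap 0 1))).hom = (pullbackSymmetry (C ↘ Spec (CommRingCat.of k)) (C ↘ Spec (CommRingCat.of k))).hom)
  {Sq : Scheme.{u}} {π : pullback (C ↘ Spec (CommRingCat.of k)) (C ↘ Spec (CommRingCat.of k)) ⟶ Sq} (hπ : SGA1.IsQuot ρ π)

include hρ hπ in
theorem invol_of_quot (h2 : (2 : k) ≠ 0) : Invol π (pullbackSymmetry (C ↘ Spec (CommRingCat.of k)) (C ↘ Spec (CommRingCat.of k))).hom where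
  comp := by rw [← hρ]; exact hπ.inv _
  sq := pullback.hom_ext (by simp) (by simp)
  inj := hπ.injective
  range U s hs := by
    obtain ⟨t, ht⟩ := (hπ.range_iff U s).2 fun g => by
      rcases perm_two g with rfl | rfl
      · show (Quot84.pull π _ (hπ.inv 1) U).hom s = s
        rw [Quot84.pull_congr π (hπ.inv 1) (Category.id_comp π) (Quot84.hom_one ρ), Quot84.pull_id]
        rfl
      · show (Quot84.pull π _ (hπ.inv _) U).hom s = s
        rw [Quot84.pull_congr π (hπ.inv _) ((hρ ▸ hπ.inv (ULift.up (Equiv.swap 0 1))) :) hρ]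
        exact hs
    exact ⟨t, ht⟩
  two := by
    have h := (isUnit_iff_ne_zero.2 h2).map (HypSq53.cst (pullback.fst (C ↘ Spec (CommRingCat.of k)) (C ↘ Spec (CommRingCat.of k)) ≫ (C ↘ Spec (CommRingCat.of k))) ⊤).hom
    rwa [map_ofNat] at h

include hρ hπ in
/-- The fibres of the quotient map are the orbits of the swap. -/
theorem mem_of_base_eq {W : (pullback (C ↘ Spec (CommRingCat.of k)) (C ↘ Spec (CommRingCat.of k))).Opens} (hW : W ≤ (pullbackSymmetry (C ↘ Spec (CommRingCat.of k)) (C ↘ Spec (CommRingCat.of k))).hom ⁻¹ᵁ W)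
    {x x' : ↥(pullback (C ↘ Spec (CommRingCat.of k)) (C ↘ Spec (CommRingCat.of k)))} (h : π x = π x') (hx : x ∈ W) : x' ∈ W := by
  obtain ⟨g, hg⟩ := (Quot84.base_eq_iff hπ x x').1 h
  rcases perm_two g with rfl | rfl
  · rw [Quot84.hom_one] at hg
    exact hg ▸ hx
  · rw [hρ] at hg
    exact hg ▸ hW hx

section Equations

variable (a : C.Opens)

/-- `e_f = f ⊗ 1 - 1 ⊗ f`. -/
def diff (f : Γ(C, a)) : Γ(pullback (C ↘ Spec (CommRingCat.of k)) (C ↘ Spec (CommRingCat.of k)), box (C ↘ Spec (CommRingCat.of k)) a a) :=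
  (pullback.fst (C ↘ Spec (CommRingCat.of k)) (C ↘ Spec (CommRingCat.of k))).appLE a (box (C ↘ Spec (CommRingCat.of k)) a a) (box_le_fst (C ↘ Spec (CommRingCat.of k)) a a) f -
    (pullback.snd (C ↘ Spec (CommRingCat.of k)) (C ↘ Spec (CommRingCat.of k))).appLE a (box (C ↘ Spec (CommRingCat.of k)) a a) (box_le_snd (C ↘ Spec (CommRingCat.of k)) a a) f

theorem box_le_swap : box (C ↘ Spec (CommRingCat.of k)) a a ≤ (pullbackSymmetry (C ↘ Spec (CommRingCat.of k)) (C ↘ Spec (CommRingCat.of k))).hom ⁻¹ᵁ box (C ↘ Spec (CommRingCat.of k)) a a := fun z hz => by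
  refine ⟨?_, ?_⟩
  · show pullback.fst (C ↘ Spec (CommRingCat.of k)) (C ↘ Spec (CommRingCat.of k)) ((pullbackSymmetry (C ↘ Spec (CommRingCat.of k)) (C ↘ Spec (CommRingCat.of k))).hom z) ∈ a
    rw [← Scheme.Hom.comp_apply, pullbackSymmetry_hom_comp_fst]
    exact hz.2
  · show pullback.snd (C ↘ Spec (CommRingCat.of k)) (C ↘ Spec (CommRingCat.of k)) ((pullbackSymmetry (C ↘ Spec (CommRingCat.of k)) (C ↘ Spec (CommRingCat.of k))).hom z) ∈ a
    rw [← Scheme.Hom.comp_apply, pullbackSymmetry_hom_comp_snd]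
    exact hz.1

theorem swap_diff (f : Γ(C, a)) :
    (pullbackSymmetry (C ↘ Spec (CommRingCat.of k)) (C ↘ Spec (CommRingCat.of k))).hom.appLE (box (C ↘ Spec (CommRingCat.of k)) a a) (box (C ↘ Spec (CommRingCat.of k)) a a) (box_le_swap a) (diff a f) = -diff a f := by
  have h1 : (pullbackSymmetry (C ↘ Spec (CommRingCat.of k)) (C ↘ Spec (CommRingCat.of k))).hom.appLE (box (C ↘ Spec (CommRingCat.of k)) a a) (box (C ↘ Spec (CommRingCat.of k)) a a) (box_le_swap a)
      ((pullback.fst (C ↘ Spec (CommRingCat.of k)) (C ↘ Spec (CommRingCat.of k))).appLE a (box (C ↘ Spec (CommRingCat.of k)) a a) (box_le_fst (C ↘ Spec (CommRingCat.of k)) a a) f) =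
        (pullback.snd (C ↘ Spec (CommRingCat.of k)) (C ↘ Spec (CommRingCat.of k))).appLE a (box (C ↘ Spec (CommRingCat.of k)) a a) (box_le_snd (C ↘ Spec (CommRingCat.of k)) a a) f := by
    show ((pullback.fst (C ↘ Spec (CommRingCat.of k)) (C ↘ Spec (CommRingCat.of k))).appLE a _ _ ≫ (pullbackSymmetry (C ↘ Spec (CommRingCat.of k)) (C ↘ Spec (CommRingCat.of k))).hom.appLE _ _ _) f = _
    rw [Scheme.Hom.appLE_comp_appLE]
    simp only [pullbackSymmetry_hom_comp_fst]
  have h2 : (pullbackSymmetry (C ↘ Spec (CommRingCat.of k)) (C ↘ Spec (CommRingCat.of k))).hom.appLE (box (C ↘ Spec (CommRingCat.of k)) a a) (box (C ↘ Spec (CommRingCat.of k)) a a) (box_le_swap a)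
      ((pullback.snd (C ↘ Spec (CommRingCat.of k)) (C ↘ Spec (CommRingCat.of k))).appLE a (box (C ↘ Spec (CommRingCat.of k)) a a) (box_le_snd (C ↘ Spec (CommRingCat.of k)) a a) f) =
        (pullback.fst (C ↘ Spec (CommRingCat.of k)) (C ↘ Spec (CommRingCat.of k))).appLE a (box (C ↘ Spec (CommRingCat.of k)) a a) (box_le_fst (C ↘ Spec (CommRingCat.of k)) a a) f := by
    show ((pullback.snd (C ↘ Spec (CommRingCat.of k)) (C ↘ Spec (CommRingCat.of k))).appLE a _ _ ≫ (pullbackSymmetry (C ↘ Spec (CommRingCat.of k)) (C ↘ Spec (CommRingCat.of k))).hom.appLE _ _ _) f = _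
    rw [Scheme.Hom.appLE_comp_appLE]
    simp only [pullbackSymmetry_hom_comp_snd]
  rw [diff, map_sub, h1, h2, neg_sub]

variable [IsProper (C ↘ Spec (CommRingCat.of k))]

/-- The ideal of the diagonal on a square box is spanned by the differences. -/
theorem ideal_diag_le (ha : IsAffineOpen a) (hW : IsAffineOpen (box (C ↘ Spec (CommRingCat.of k)) a a)) :
    haveI := HypSq53.isClosedImmersion_graph (𝟙 C) (Category.id_comp (C ↘ Spec (CommRingCat.of k)))
    (HypSq53.graph (𝟙 C) (Category.id_comp (C ↘ Spec (CommRingCat.of k)))).ker.ideal ⟨_, hW⟩ ≤ Ideal.span (Set.range (diff a)) := by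
  haveI := HypSq53.isClosedImmersion_graph (𝟙 C) (Category.id_comp (C ↘ Spec (CommRingCat.of k)))
  intro g hg
  let J := Ideal.span (Set.range (diff (k := k) a))
  let pr := (pullback.fst (C ↘ Spec (CommRingCat.of k)) (C ↘ Spec (CommRingCat.of k))).appLE a (box (C ↘ Spec (CommRingCat.of k)) a a) (box_le_fst (C ↘ Spec (CommRingCat.of k)) a a)
  let ev := HypSq53.ev (𝟙 C) (Category.id_comp (C ↘ Spec (CommRingCat.of k))) (a := a) (b := a) le_rfl
  have key : g - pr (ev g) ∈ J := by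
    refine HypSq53.induction_box (C ↘ Spec (CommRingCat.of k)) ha ha (fun g => g - pr (ev g) ∈ J) (by simp) (fun x y => ?_)
      (fun u v hu hv => by
        show u + v - pr (ev (u + v)) ∈ J
        rw [map_add, map_add, add_sub_add_comm]
        exact J.add_mem hu hv) g
    show _ - pr (ev _) ∈ J
    rw [map_mul, HypSq53.ev_fst, HypSq53.ev_snd, HypSq53.id_appLE, map_mul, ← mul_sub]
    refine J.mul_mem_left _ ?_
    rw [← neg_sub]
    exact J.neg_mem (Ideal.subset_span ⟨y, rfl⟩)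
  rwa [show ev g = 0 from (HypSq53.mem_ker_iff_ev (𝟙 C) (Category.id_comp (C ↘ Spec (CommRingCat.of k))) le_rfl hW g).1 hg, map_zero,
    sub_zero] at key

theorem diff_mem_diag (hW : IsAffineOpen (box (C ↘ Spec (CommRingCat.of k)) a a)) (f : Γ(C, a)) :
    haveI := HypSq53.isClosedImmersion_graph (𝟙 C) (Category.id_comp (C ↘ Spec (CommRingCat.of k)))
    diff a f ∈ (HypSq53.graph (𝟙 C) (Category.id_comp (C ↘ Spec (CommRingCat.of k)))).ker.ideal ⟨_, hW⟩ := by
  haveI := HypSq53.isClosedImmersion_graph (𝟙 C) (Category.id_comp (C ↘ Spec (CommRingCat.of k)))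
  refine (HypSq53.mem_ker_iff_ev (𝟙 C) (Category.id_comp (C ↘ Spec (CommRingCat.of k))) le_rfl hW _).2 ?_
  refine (map_sub (HypSq53.ev (𝟙 C) (Category.id_comp (C ↘ Spec (CommRingCat.of k))) (a := a) (b := a) le_rfl) _ _).trans ?_
  rw [HypSq53.ev_fst, HypSq53.ev_snd, HypSq53.id_appLE]
  exact sub_self _

end Equations

/-- A group is not the union of two proper subgroups. -/
theorem exists_avoid {κ : Type*} [AddCommGroup κ] {A B : AddSubgroup κ} (hA : A ≠ ⊤) (hB : B ≠ ⊤) :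
    ∃ j, j ∉ A ∧ j ∉ B := by
  obtain ⟨a, ha⟩ : ∃ a, a ∉ A := not_forall.1 fun h => hA ((AddSubgroup.eq_top_iff' A).2 h)
  obtain ⟨b, hb⟩ : ∃ b, b ∉ B := not_forall.1 fun h => hB ((AddSubgroup.eq_top_iff' B).2 h)
  by_cases haB : a ∈ B
  · by_cases hbA : b ∈ A
    · exact ⟨a + b, fun h => ha ((A.add_mem_cancel_right hbA).1 h), fun h => hb ((B.add_mem_cancel_left haB).1 h)⟩
    · exact ⟨b, hbA, hb⟩
  · exact ⟨a, ha, haB⟩

/-- An invertible ideal spanned by a group of elements: almost all of them are equations near a given point. -/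
theorem exists_frame_of_span {X : Scheme.{u}} {I : X.IdealSheafData} (hI : PicF.IsInvertible (ClSub.idealMod I))
    (B : X.affineOpens) {κ : Type*} [AddCommGroup κ] (e : κ →+ Γ(X, B.1)) (hmem : ∀ j, e j ∈ I.ideal B)
    (hspan : I.ideal B ≤ Ideal.span (Set.range e)) {x : X} (hx : x ∈ B.1) :
    ∃ bad : AddSubgroup κ, bad ≠ ⊤ ∧ ∀ j ∉ bad,
      ∃ (V : X.Opens) (hV : V ≤ B.1) (m : Γ(ClSub.idealMod I, V)), x ∈ V ∧
        IsFrame (ClSub.idealMod I) V m ∧
          OmegaSh.idealSect I V m = X.presheaf.map (homOfLE hV).op (e j) := by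
  obtain ⟨V, hxV, hVB, m, hm⟩ := Mero90.exists_affine_frame hI x B.1 hx
  obtain ⟨hh, hIV⟩ := HypSq53.span_of_frame I V hm
  let h := OmegaSh.idealSect I V.1 m
  let P : Ideal Γ(X, V.1) := (IsLocalRing.maximalIdeal (X.presheaf.stalk x)).comap (X.presheaf.germ V.1 x hxV).hom
  have hP : P ≠ ⊤ := Ideal.comap_ne_top _ (IsLocalRing.maximalIdeal.isMaximal _).ne_top
  have hmap : (I.ideal B).map (X.presheaf.map (homOfLE hVB).op).hom = I.ideal V :=
    Scheme.IdealSheafData.map_ideal I hVB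
  have hc : ∀ j, ∃ c, c * h = X.presheaf.map (homOfLE hVB).op (e j) := fun j => by
    have h1 : X.presheaf.map (homOfLE hVB).op (e j) ∈
        (I.ideal B).map (X.presheaf.map (homOfLE hVB).op).hom := Ideal.mem_map_of_mem _ (hmem j)
    rw [hmap, hIV, Ideal.mem_span_singleton'] at h1
    exact h1
  choose c hc using hc
  have cancel : ∀ u v : Γ(X, V.1), u * h = v * h → u = v := fun u v huv =>
    sub_eq_zero.1 (mem_nonZeroDivisors_iff_right.1 hh (u - v) (show (u - v) * h = 0 by rw [sub_mul, huv, sub_self]))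
  let cHom : κ →+ Γ(X, V.1) := AddMonoidHom.mk' c fun u v => cancel _ _ (by rw [add_mul, hc, hc, hc, map_add, map_add])
  refine ⟨P.toAddSubgroup.comap cHom, fun htop => ?_, fun j hj => ?_⟩
  · have hne : ∀ j, c j ∈ P := fun j => htop.ge (AddSubgroup.mem_top j)
    have h1 : I.ideal V ≤ Ideal.span {h} * P := by
      rw [← hmap]
      refine (Ideal.map_mono hspan).trans ?_
      rw [Ideal.map_span, Ideal.span_le]
      rintro _ ⟨_, ⟨j, rfl⟩, rfl⟩
      show X.presheaf.map (homOfLE hVB).op (e j) ∈ Ideal.span {h} * P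
      rw [← hc j, mul_comm (c j) h]
      exact Ideal.mul_mem_mul (Ideal.mem_span_singleton_self h) (hne j)
    obtain ⟨z, hz, hz'⟩ := Ideal.mem_span_singleton_mul.1 (h1 (hIV ▸ Ideal.mem_span_singleton_self h))
    have h3 : z = 1 := cancel z 1 (by rw [one_mul, mul_comm z h, hz'])
    exact hP ((Ideal.eq_top_iff_one _).2 (h3 ▸ hz))
  let V' : X.Opens := X.basicOpen (c j)
  have hxV' : x ∈ V' := (X.mem_basicOpen (c j) x hxV).2 (not_not.1 fun hu => hj
    (show _ ∈ IsLocalRing.maximalIdeal _ from (IsLocalRing.mem_maximalIdeal _).2 hu))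
  have hV'V : V' ≤ V.1 := X.basicOpen_le (c j)
  obtain ⟨u, hu⟩ : IsUnit (X.presheaf.map (homOfLE hV'V).op (c j)) := RingedSpace.isUnit_res_basicOpen _ (c j)
  refine ⟨V', hV'V.trans hVB, (u : Γ(X, V')) • res (ClSub.idealMod I) hV'V m, hxV', ?_, ?_⟩
  · intro W hW
    have hfun : (fun b : Γ(X, W) => b • res (ClSub.idealMod I) hW ((u : Γ(X, V')) • res _ hV'V m)) =
        (fun b : Γ(X, W) => b • res (ClSub.idealMod I) hW (res _ hV'V m)) ∘
          (fun b : Γ(X, W) => X.presheaf.map (homOfLE hW).op (u : Γ(X, V')) * b) :=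
      funext fun b => by rw [res_smul, Function.comp_apply, mul_comm, mul_smul]
    rw [hfun]
    exact (hm.res hV'V W hW).comp (IsUnit.isUnit_iff_mulLeft_bijective.1 (u.isUnit.map (X.presheaf.map (homOfLE hW).op).hom))
  · rw [Omega57.idealSect_smul, Curves2.idealSect_res, hu, ← map_mul, hc, ← CommRingCat.comp_apply, ← Functor.map_comp]
    rfl

variable [IsProper (C ↘ Spec (CommRingCat.of k))] [IsIntegral C]

variable (k) in
include k in
/-- Any two points of the curve lie in an affine open. -/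
theorem exists_affine_pair (hdim : topologicalKrullDim C = 1) (x y : C) :
    ∃ a : C.Opens, IsAffineOpen a ∧ x ∈ a ∧ y ∈ a := by
  have : LocallyOfFiniteType (C ↘ Spec (CommRingCat.of k)) := inferInstance
  have : JacobsonSpace C := LocallyOfFiniteType.jacobsonSpace (C ↘ Spec (CommRingCat.of k))
  have : CompactSpace C := QuasiCompact.compactSpace_of_compactSpace (C ↘ Spec (CommRingCat.of k))
  obtain ⟨cx, hcx, hcx'⟩ := IsClosed.exists_closed_singleton (isClosed_closure (s := {x})) ⟨x, subset_closure rfl⟩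
  obtain ⟨cy, hcy, hcy'⟩ := IsClosed.exists_closed_singleton (isClosed_closure (s := {y})) ⟨y, subset_closure rfl⟩
  let U : C.Opens := ⟨({cx} ∪ {cy} : Set C)ᶜ, (hcx'.union hcy').isOpen_compl⟩
  have hgU : genericPoint C ∈ U := by
    rintro (h | h)
    · exact Cyc90.not_isClosed_generic hdim (Set.mem_singleton_iff.1 h ▸ hcx')
    · exact Cyc90.not_isClosed_generic hdim (Set.mem_singleton_iff.1 h ▸ hcy')
  obtain ⟨c, hcU, hc⟩ := nonempty_inter_closedPoints (X := C) ⟨_, hgU⟩ U.isOpen.isLocallyClosed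
  refine ⟨_, Curves2.affine_compl_point k hdim c hc, ?_, ?_⟩
  · exact (specializes_iff_mem_closure.2 hcx).mem_open hc.isOpen_compl fun h => hcU (Or.inl h.symm)
  · exact (specializes_iff_mem_closure.2 hcy).mem_open hc.isOpen_compl fun h => hcU (Or.inr h.symm)

include hρ hπ in
/-- Local anti-invariant equations of the diagonal. -/
theorem exists_antiEq (h2 : (2 : k) ≠ 0) (hdim : topologicalKrullDim C = 1)
    (hD : haveI := HypSq53.isClosedImmersion_graph (𝟙 C) (Category.id_comp (C ↘ Spec (CommRingCat.of k)))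
      PicF.IsInvertible (ClSub.idealMod (HypSq53.graph (𝟙 C) (Category.id_comp (C ↘ Spec (CommRingCat.of k)))).ker)) (y : Sq) :
    ∃ U : Sq.Opens, y ∈ U ∧
      haveI := HypSq53.isClosedImmersion_graph (𝟙 C) (Category.id_comp (C ↘ Spec (CommRingCat.of k)))
      AntiEq (HypSq53.graph (𝟙 C) (Category.id_comp (C ↘ Spec (CommRingCat.of k)))) (invol_of_quot hρ hπ h2) U := by
  haveI := HypSq53.isClosedImmersion_graph (𝟙 C) (Category.id_comp (C ↘ Spec (CommRingCat.of k)))
  obtain ⟨x, rfl⟩ := Quot84.surjective hπ y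
  obtain ⟨a, ha, hx1, hx2⟩ := exists_affine_pair k hdim (pullback.fst (C ↘ Spec (CommRingCat.of k)) (C ↘ Spec (CommRingCat.of k)) x) (pullback.snd (C ↘ Spec (CommRingCat.of k)) (C ↘ Spec (CommRingCat.of k)) x)
  have hB : IsAffineOpen (box (C ↘ Spec (CommRingCat.of k)) a a) := HypSq53.isAffineOpen_box (C ↘ Spec (CommRingCat.of k)) ha ha
  let sw := (pullbackSymmetry (C ↘ Spec (CommRingCat.of k)) (C ↘ Spec (CommRingCat.of k))).hom
  let e : Γ(C, a) →+ Γ(pullback (C ↘ Spec (CommRingCat.of k)) (C ↘ Spec (CommRingCat.of k)), box (C ↘ Spec (CommRingCat.of k)) a a) :=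
    AddMonoidHom.mk' (diff a) fun f g => by simp only [diff, map_add, add_sub_add_comm]
  have hx : x ∈ box (C ↘ Spec (CommRingCat.of k)) a a := ⟨hx1, hx2⟩
  obtain ⟨A₁, hA₁, h₁⟩ := exists_frame_of_span hD ⟨_, hB⟩ e (diff_mem_diag a hB) (ideal_diag_le a ha hB) hx
  obtain ⟨A₂, hA₂, h₂'⟩ := exists_frame_of_span hD ⟨_, hB⟩ e (diff_mem_diag a hB) (ideal_diag_le a ha hB)
    (x := sw x) (box_le_swap a hx)
  obtain ⟨f, hf₁, hf₂⟩ := exists_avoid hA₁ hA₂
  obtain ⟨V₁, hV₁, m₁, hx₁, hm₁, hme₁⟩ := h₁ f hf₁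
  obtain ⟨V₂, hV₂, m₂, hx₂, hm₂, hme₂⟩ := h₂' f hf₂
  let W := (V₁ ⊔ V₂) ⊓ sw ⁻¹ᵁ (V₁ ⊔ V₂)
  have hWB : W ≤ box (C ↘ Spec (CommRingCat.of k)) a a := inf_le_left.trans (sup_le hV₁ hV₂)
  have hinv : ∀ z, sw (sw z) = z := fun z => by
    rw [← Scheme.Hom.comp_apply, (invol_of_quot hρ hπ h2).sq]
    rfl
  have hW : W ≤ box (C ↘ Spec (CommRingCat.of k)) a a ⊓ sw ⁻¹ᵁ W := fun z hz =>
    ⟨hWB hz, hz.2, show sw (sw z) ∈ V₁ ⊔ V₂ from (hinv z).symm ▸ hz.1⟩
  have hxW : x ∈ W := ⟨Or.inl hx₁, Or.inr hx₂⟩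
  obtain ⟨m', hm'⟩ := exists_idealSect_of_app_eq_zero (HypSq53.graph (𝟙 C) (Category.id_comp (C ↘ Spec (CommRingCat.of k)))) W
    ((pullback (C ↘ Spec (CommRingCat.of k)) (C ↘ Spec (CommRingCat.of k))).presheaf.map (homOfLE hWB).op (diff a f)) (by
      rw [← CommRingCat.comp_apply, (HypSq53.graph (𝟙 C) (Category.id_comp (C ↘ Spec (CommRingCat.of k)))).naturality,
        CommRingCat.comp_apply]
      have h0 := diff_mem_diag a hB f
      rw [Scheme.Hom.ker_apply, RingHom.mem_ker] at h0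
      exact (congrArg _ h0).trans (map_zero _))
  have hframe : IsFrame _ W m' := Amp73.isFrame_of_locally _ fun z hz => by
    have key : ∀ (V' : (pullback (C ↘ Spec (CommRingCat.of k)) (C ↘ Spec (CommRingCat.of k))).Opens)
        (hV' : V' ≤ box (C ↘ Spec (CommRingCat.of k)) a a) (n : Γ(ClSub.idealMod _, V')),
        IsFrame _ V' n → OmegaSh.idealSect _ V' n =
          (pullback (C ↘ Spec (CommRingCat.of k)) (C ↘ Spec (CommRingCat.of k))).presheaf.map (homOfLE hV').op (diff a f) →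
        IsFrame _ (W ⊓ V') (res _ inf_le_left m') := fun V' hV' n hn hne => by
      have hr : res _ (inf_le_left : W ⊓ V' ≤ W) m' = res _ (inf_le_right : W ⊓ V' ≤ V') n := by
        refine Omega57.idealSect_injective _ _ ?_
        rw [Curves2.idealSect_res, Curves2.idealSect_res, hm', hne, ← CommRingCat.comp_apply,
          ← CommRingCat.comp_apply, ← Functor.map_comp, ← Functor.map_comp]
        rfl
      rw [hr]
      exact hn.res _
    rcases (show z ∈ V₁ ⊔ V₂ from hz.1) with h | h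
    · exact ⟨W ⊓ V₁, inf_le_left, ⟨hz, h⟩, key V₁ hV₁ m₁ hm₁ hme₁⟩
    · exact ⟨W ⊓ V₂, inf_le_left, ⟨hz, h⟩, key V₂ hV₂ m₂ hm₂ hme₂⟩
  let U : Sq.Opens := ⟨π '' W, by
    rw [← (Quot84.isQuotientMap hπ).isOpen_preimage]
    have heq : π ⁻¹' (π '' W) = W := Set.Subset.antisymm
      (fun z ⟨w, hw, hwz⟩ => mem_of_base_eq hρ hπ (fun q hq => (hW hq).2) hwz hw) (Set.subset_preimage_image _ _)
    rw [heq]
    exact W.isOpen⟩
  have hUW : π ⁻¹ᵁ U ≤ W := fun z ⟨w, hw, hwz⟩ => mem_of_base_eq hρ hπ (fun q hq => (hW hq).2) hwz hw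
  have hUB : π ⁻¹ᵁ U ≤ box (C ↘ Spec (CommRingCat.of k)) a a := hUW.trans fun q hq => (hW hq).1
  refine ⟨U, ⟨x, hxW, rfl⟩, res _ hUW m', hframe.res hUW, ?_⟩
  have hres : (pullback (C ↘ Spec (CommRingCat.of k)) (C ↘ Spec (CommRingCat.of k))).presheaf.map (homOfLE hUW).op
      ((pullback (C ↘ Spec (CommRingCat.of k)) (C ↘ Spec (CommRingCat.of k))).presheaf.map (homOfLE hWB).op (diff a f)) =
      (pullback (C ↘ Spec (CommRingCat.of k)) (C ↘ Spec (CommRingCat.of k))).presheaf.map (homOfLE hUB).op (diff a f) := by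
    rw [← CommRingCat.comp_apply, ← Functor.map_comp]
    rfl
  rw [Curves2.idealSect_res, hm', hres]
  show sw.appLE _ _ _ ((pullback (C ↘ Spec (CommRingCat.of k)) (C ↘ Spec (CommRingCat.of k))).presheaf.map (homOfLE hUB).op (diff a f)) =
    -((pullback (C ↘ Spec (CommRingCat.of k)) (C ↘ Spec (CommRingCat.of k))).presheaf.map (homOfLE hUB).op (diff a f))
  rw [← map_neg, ← swap_diff a f, ← CommRingCat.comp_apply, ← CommRingCat.comp_apply, Scheme.Hom.map_appLE,
    Scheme.Hom.appLE_map]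

end Groth.Agent.SymSq53

end
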